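import Cfsg.Agent.H198.FC.Defs

/-!
# S5764, L-C6x: scalars and ranks (helper716)
-/

set_option autoImplicit false

namespace Cfsg.Agent.H716.FC
open Cfsg.Agent.H198.FC Module

universe u v

section basics

variable {K : Type u} [Field K] {V : Type v} [AddCommGroup V] [Module K V]

theorem sc_of_comm {X : R K V} (h : ∀ Y : R K V, X * Y = Y * X) : ∃ s : K, X = s • (1 : R K V) := by
  have h1 : X ∈ Subalgebra.center K (R K V) := Subalgebra.mem_center_iff.2 fun Y => (h Y).symm
  have h2 := Algebra.IsCentral.out (K := K) (D := R K V) h1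
  obtain ⟨s, hs⟩ := Algebra.mem_bot.1 h2
  exact ⟨s, by rw [← hs, Algebra.algebraMap_eq_smul_one]⟩

theorem cj_eq_of {x y : (R K V)ˣ} (h : cj K V x = cj K V y) : ∃ s : K, (x : R K V) = s • (y : R K V) := by
  have h1 : ∀ Y : R K V, ((y⁻¹ * x : (R K V)ˣ) : R K V) * Y = Y * ((y⁻¹ * x : (R K V)ˣ) : R K V) := by
    intro Y
    have h2 : (x : R K V) * Y * ((x⁻¹ : (R K V)ˣ) : R K V) = y * Y * ((y⁻¹ : (R K V)ˣ) : R K V) := by
      have := congrArg (fun f : Equiv.Perm (R K V) => f Y) h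
      simpa using this
    have h3 : ((y⁻¹ * x : (R K V)ˣ) : R K V) * Y =
        ((y⁻¹ : (R K V)ˣ) : R K V) * ((x : R K V) * Y * ((x⁻¹ : (R K V)ˣ) : R K V)) * x := by
      simp [mul_assoc]
    rw [h3, h2]
    simp [mul_assoc]
  obtain ⟨s, hs⟩ := sc_of_comm h1
  refine ⟨s, ?_⟩
  have h3 : (x : R K V) = y * ((y⁻¹ * x : (R K V)ˣ) : R K V) := by simp
  rw [h3, hs]
  simp

theorem cj_eq_of' {x y : (R K V)ˣ} {s : K} (h : (x : R K V) = s • (y : R K V)) : cj K V x = cj K V y := by
  apply Equiv.ext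
  intro X
  rw [cj_apply, cj_apply]
  have h1 : (x : R K V) * X = (y * X * ((y⁻¹ : (R K V)ˣ) : R K V)) * x := by
    rw [h]
    simp [mul_assoc]
  rw [h1]
  simp [mul_assoc]

theorem cj_eq_one {x : (R K V)ˣ} (h : cj K V x = 1) : ∃ s : K, (x : R K V) = s • (1 : R K V) := by
  have h1 : cj K V x = cj K V 1 := by rw [h, map_one]
  obtain ⟨s, hs⟩ := cj_eq_of h1
  exact ⟨s, by rw [hs]; rfl⟩

theorem cj_eq_one' {x : (R K V)ˣ} {s : K} (h : (x : R K V) = s • (1 : R K V)) : cj K V x = 1 := by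
  have h1 : cj K V x = cj K V 1 := cj_eq_of' (s := s) (by rw [h]; rfl)
  rw [h1, map_one]

/-- the scalar commutator -/
theorem comm_sc {g u : (R K V)ˣ} (h : cj K V g * cj K V u = cj K V u * cj K V g) :
    ∃ ε : K, (g : R K V) * u = ε • ((u : R K V) * g) := by
  rw [← map_mul, ← map_mul] at h
  obtain ⟨s, hs⟩ := cj_eq_of h
  exact ⟨s, by rw [← Units.val_mul, hs]; simp⟩

theorem smul_eq_zero_unit [Nontrivial V] {s : K} {x : (R K V)ˣ} (h : s • (x : R K V) = 0) : s = 0 := by
  rcases smul_eq_zero.1 h with h | h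
  · exact h
  · exact absurd h x.ne_zero

theorem smul_inj_unit [Nontrivial V] {s t : K} {x : (R K V)ˣ} (h : s • (x : R K V) = t • (x : R K V)) : s = t := by
  have h1 : (s - t) • (x : R K V) = 0 := by rw [sub_smul, h, sub_self]
  exact sub_eq_zero.1 (smul_eq_zero_unit h1)

/-- elements of `RA` -/
theorem RA_one {f : Equiv.Perm (R K V)} (hf : f ∈ RA K V) : f 1 = 1 := by
  obtain ⟨X, hX⟩ := f.surjective 1
  rcases hf.2 with h | h
  · have := h X 1
    rw [mul_one, hX, one_mul] at this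
    exact this.symm
  · have := h X 1
    rw [mul_one, hX, mul_one] at this
    exact this.symm

theorem RA_zero {f : Equiv.Perm (R K V)} (hf : f ∈ RA K V) : f 0 = 0 := by
  have := hf.1 0 0
  rw [add_zero] at this
  exact left_eq_add.1 this

/-- the action on scalars -/
theorem exists_sig [Nontrivial V] {f : Equiv.Perm (R K V)} (hf : f ∈ RA K V) :
    ∃ σ : K →+* K, ∀ (s : K) (X : R K V), f (s • X) = σ s • f X := by
  have h1 : ∀ s : K, ∃ t : K, f (s • (1 : R K V)) = t • (1 : R K V) := by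
    intro s
    apply sc_of_comm
    intro Y
    obtain ⟨X, rfl⟩ := f.surjective Y
    rcases hf.2 with h | h
    · rw [← h, ← h]; simp
    · rw [← h, ← h]; simp
  choose σ hσ using h1
  have hinj : ∀ s t : K, s • (1 : R K V) = t • (1 : R K V) → s = t := fun s t h =>
    smul_inj_unit (V := V) (x := 1) h
  have hmul : ∀ (s : K) (X : R K V), f (s • X) = σ s • f X := by
    intro s X
    have h2 : s • X = (s • (1 : R K V)) * X := by simp
    rw [h2]
    rcases hf.2 with h | h
    · rw [h, hσ]; simp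
    · rw [h, hσ]; simp
  refine ⟨⟨⟨⟨σ, ?_⟩, ?_⟩, ?_, ?_⟩, hmul⟩
  · apply hinj
    rw [← hσ, one_smul, RA_one hf]
  · intro s t
    apply hinj
    rw [← hσ, mul_smul, hmul, hσ, smul_smul]
  · apply hinj
    change σ 0 • _ = _
    rw [← hσ, zero_smul, RA_zero hf]
  · intro s t
    apply hinj
    change σ (s + t) • _ = (σ s + σ t) • _
    rw [← hσ, add_smul, add_smul, hf.1, hσ, hσ]

/-- an automorphism centralizing `cj u` multiplies `u` by a scalar -/
theorem lam_pos {f : Equiv.Perm (R K V)} (hf : ∀ X Y, f (X * Y) = f X * f Y) (h1 : f 1 = 1) {u : (R K V)ˣ}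
    (h : f * cj K V u = cj K V u * f) : ∃ l : K, f u = l • (u : R K V) := by
  have h2 : ∀ Y : R K V, (((u⁻¹ : (R K V)ˣ) : R K V) * f u) * Y = Y * (((u⁻¹ : (R K V)ˣ) : R K V) * f u) := by
    intro Y
    obtain ⟨X, rfl⟩ := f.surjective Y
    have h3 : f (u * X * ((u⁻¹ : (R K V)ˣ) : R K V)) = u * f X * ((u⁻¹ : (R K V)ˣ) : R K V) := by
      have := congrArg (fun g : Equiv.Perm (R K V) => g X) h
      simpa using this
    rw [hf, hf] at h3
    have h4 : f ((u⁻¹ : (R K V)ˣ) : R K V) * f u = 1 := by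
      rw [← hf]; simpa using h1
    have h5 := congrArg (fun Z => ((u⁻¹ : (R K V)ˣ) : R K V) * Z * f u) h3
    simp only [mul_assoc, h4, mul_one] at h5
    rw [mul_assoc, h5]
    simp [mul_assoc]
  obtain ⟨s, hs⟩ := sc_of_comm h2
  refine ⟨s, ?_⟩
  have h6 : f u = u * (((u⁻¹ : (R K V)ˣ) : R K V) * f u) := by simp [← mul_assoc]
  rw [h6, hs]
  simp

/-- an anti-automorphism centralizing `cj u` maps `u` to a multiple of `u⁻¹` -/
theorem lam_neg {f : Equiv.Perm (R K V)} (hf : ∀ X Y, f (X * Y) = f Y * f X) (h1 : f 1 = 1) {u : (R K V)ˣ}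
    (h : f * cj K V u = cj K V u * f) : ∃ l : K, f u = l • ((u⁻¹ : (R K V)ˣ) : R K V) := by
  have h2 : ∀ Y : R K V, (f u * u) * Y = Y * (f u * u) := by
    intro Y
    obtain ⟨X, rfl⟩ := f.surjective Y
    have h3 : f (u * X * ((u⁻¹ : (R K V)ˣ) : R K V)) = u * f X * ((u⁻¹ : (R K V)ˣ) : R K V) := by
      have := congrArg (fun g : Equiv.Perm (R K V) => g X) h
      simpa using this
    rw [hf, hf] at h3
    have h4 : f u * f ((u⁻¹ : (R K V)ˣ) : R K V) = 1 := by
      rw [← hf]; simpa using h1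
    have h5 := congrArg (fun Z => f u * Z * u) h3
    simp only [← mul_assoc, h4, one_mul] at h5
    rw [← mul_assoc, h5]
    simp
  obtain ⟨s, hs⟩ := sc_of_comm h2
  refine ⟨s, ?_⟩
  have h6 : f u = (f u * u) * ((u⁻¹ : (R K V)ˣ) : R K V) := by simp [mul_assoc]
  rw [h6, hs]
  simp

end basics

section kappa

variable {K : Type u} [Field K]

theorem sig_id {κ : Kˣ} (hκ : ∀ x : Kˣ, x ∈ Subgroup.zpowers κ) (σ : K →+* K) (h : σ κ = κ) (x : K) : σ x = x := by
  rcases eq_or_ne x 0 with rfl | hx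
  · simp
  · obtain ⟨k, hk⟩ := hκ (Units.mk0 x hx)
    have h1 : x = ((κ : K)) ^ k := by
      have := congrArg (fun y : Kˣ => (y : K)) hk
      simpa using this.symm
    rw [h1, map_zpow₀, h]

theorem sig_neg {κ : Kˣ} (hκ : ∀ x : Kˣ, x ∈ Subgroup.zpowers κ) (h2 : (2 : K) ≠ 0) (σ : K →+* K) :
    σ κ ≠ -κ := by
  intro h
  have h1 : ∀ x : K, x ≠ 0 → σ x = x ∨ σ x = -x := by
    intro x hx
    obtain ⟨k, hk⟩ := hκ (Units.mk0 x hx)
    have h3 : x = ((κ : K)) ^ k := by
      have := congrArg (fun y : Kˣ => (y : K)) hk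
      simpa using this.symm
    rw [h3, map_zpow₀, h]
    rcases Int.even_or_odd k with hk | hk
    · left; exact hk.neg_zpow _
    · right; exact hk.neg_zpow _
  rcases eq_or_ne (1 + (κ : K)) 0 with h0 | h0
  · have h3 : (κ : K) = -1 := by linear_combination h0
    rw [h3] at h
    simp only [map_neg, map_one, neg_neg] at h
    apply h2
    linear_combination -h
  · rcases h1 _ h0 with h3 | h3
    · rw [map_add, map_one, h] at h3
      have h4 : (2 : K) * κ = 0 := by linear_combination -h3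
      rcases mul_eq_zero.1 h4 with h5 | h5
      · exact h2 h5
      · exact κ.ne_zero h5
    · rw [map_add, map_one, h] at h3
      apply h2
      linear_combination h3

end kappa

section rank

variable {K : Type u} [Field K] {V : Type v} [AddCommGroup V] [Module K V]

/-- the rank -/
noncomputable def rk (X : R K V) : ℕ := finrank K (LinearMap.range X)

variable [Module.Finite K V]

theorem rk_mul_left (X Y : R K V) : rk (X * Y) ≤ rk Y := by
  unfold rk
  have h : LinearMap.range (X * Y) = (LinearMap.range Y).map X := LinearMap.range_comp Y X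
  rw [h]
  exact Submodule.finrank_map_le _ _

theorem rk_mul_right (X Y : R K V) : rk (X * Y) ≤ rk X := by
  unfold rk
  exact Submodule.finrank_mono (LinearMap.range_comp_le_range Y X)

theorem rk_add (X Y : R K V) : rk (X + Y) ≤ rk X + rk Y := by
  unfold rk
  have h : LinearMap.range (X + Y) ≤ LinearMap.range X ⊔ LinearMap.range Y := by
    rintro _ ⟨v, rfl⟩
    exact Submodule.add_mem_sup ⟨v, rfl⟩ ⟨v, rfl⟩
  exact (Submodule.finrank_mono h).trans (Submodule.finrank_add_le_finrank_add_finrank _ _)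

theorem rk_smul (s : K) (X : R K V) : rk (s • X) ≤ rk X := by
  have h : s • X = (s • (1 : R K V)) * X := by simp
  rw [h]
  exact rk_mul_left _ _

theorem rk_neg (X : R K V) : rk (-X) ≤ rk X := by
  have h : -X = (-1 : K) • X := by simp
  rw [h]
  exact rk_smul _ _

theorem rk_unit (x : (R K V)ˣ) : rk (x : R K V) = finrank K V := by
  apply le_antisymm
  · exact Submodule.finrank_le _
  · have h1 := rk_mul_left ((x⁻¹ : (R K V)ˣ) : R K V) (x : R K V)
    have h2 : rk (1 : R K V) = finrank K V := by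
      unfold rk
      have : LinearMap.range (1 : R K V) = ⊤ := LinearMap.range_id
      rw [this, finrank_top]
    have h3 : ((x⁻¹ : (R K V)ˣ) : R K V) * (x : R K V) = 1 := by simp
    rw [h3, h2] at h1
    exact h1

theorem rk_one : rk (1 : R K V) = finrank K V := rk_unit 1

theorem rk_smul_one {s : K} (hs : s ≠ 0) : rk (s • (1 : R K V)) = finrank K V := by
  apply le_antisymm
  · exact Submodule.finrank_le _
  · have h1 := rk_smul s⁻¹ (s • (1 : R K V))
    rw [smul_smul, inv_mul_cancel₀ hs, one_smul, rk_one] at h1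
    exact h1

/-- rank one -/
theorem rk_smulRight (φ : Module.Dual K V) (w : V) : rk (φ.smulRight w) ≤ 1 := by
  unfold rk
  have h : LinearMap.range (φ.smulRight w) ≤ Submodule.span K {w} := by
    rintro _ ⟨v, rfl⟩
    exact Submodule.smul_mem _ _ (Submodule.mem_span_singleton_self w)
  exact (Submodule.finrank_mono h).trans (finrank_span_le_card {w} |>.trans (by simp))

/-- `v c v⁻¹ = ε c`, `ε ≠ 1`, `rk (c - 1) ≤ 4` -/
theorem not_rk {c v : (R K V)ˣ} {ε : K} (h : (v : R K V) * c = ε • ((c : R K V) * v)) (hε : ε ≠ 1)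
    (h7 : finrank K V = 7 → ε ^ 2 ≠ 1) (hn : finrank K V = 7 ∨ 9 ≤ finrank K V)
    (hrk : rk ((c : R K V) - 1) ≤ 4) : False := by
  have hε0 : ε ≠ 0 := by
    rintro rfl
    rw [zero_smul] at h
    have h0 : ((v * c : (R K V)ˣ) : R K V) = 0 := by simpa using h
    have : Nontrivial V := by
      rw [← Module.finrank_pos_iff (R := K)]
      omega
    exact (v * c).ne_zero h0
  -- conjugation by `v`
  have key : ∀ t : K, v * ((c : R K V) - t • (1 : R K V)) * ((v⁻¹ : (R K V)ˣ) : R K V) =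
      ε • ((c : R K V) - (ε⁻¹ * t) • (1 : R K V)) := by
    intro t
    rw [mul_sub, sub_mul, h]
    rw [smul_sub, smul_smul, ← mul_assoc ε, mul_inv_cancel₀ hε0, one_mul]
    simp [mul_assoc]
  have key2 : ∀ t : K, rk ((c : R K V) - (ε⁻¹ * t) • (1 : R K V)) ≤ rk ((c : R K V) - t • (1 : R K V)) := by
    intro t
    have h1 : (c : R K V) - (ε⁻¹ * t) • (1 : R K V) =
        ε⁻¹ • (v * ((c : R K V) - t • (1 : R K V)) * ((v⁻¹ : (R K V)ˣ) : R K V)) := by
      rw [key, smul_smul, inv_mul_cancel₀ hε0, one_smul]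
    rw [h1]
    exact (rk_smul _ _).trans ((rk_mul_right _ _).trans (rk_mul_left _ _))
  have hr0 : rk ((c : R K V) - (1 : K) • (1 : R K V)) ≤ 4 := by rwa [one_smul]
  have hr1 : rk ((c : R K V) - (ε⁻¹) • (1 : R K V)) ≤ 4 := by
    have := key2 1
    rw [mul_one] at this
    exact this.trans hr0
  have hr2 : rk ((c : R K V) - (ε⁻¹ * ε⁻¹) • (1 : R K V)) ≤ 4 := (key2 _).trans hr1
  have hle8 : finrank K V ≤ 8 := by
    have h1 : (1 - ε⁻¹) • (1 : R K V) =
        ((c : R K V) - (ε⁻¹) • (1 : R K V)) + -((c : R K V) - (1 : K) • (1 : R K V)) := by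
      rw [sub_smul]; abel
    have h2 : (1 - ε⁻¹) ≠ 0 := by
      intro h3
      apply hε
      have : ε⁻¹ = 1 := by linear_combination -h3
      rw [← inv_inv ε, this, inv_one]
    rw [← rk_smul_one (V := V) h2, h1]
    exact (rk_add _ _).trans (Nat.add_le_add hr1 ((rk_neg _).trans hr0))
  rcases hn with hn | hn
  swap
  · omega
  -- `n = 7`
  have hε2 := h7 hn
  have hker : ∀ t : K, rk ((c : R K V) - t • (1 : R K V)) ≤ 4 →
      3 ≤ finrank K (LinearMap.ker ((c : R K V) - t • (1 : R K V))) := by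
    intro t ht
    have h1 := LinearMap.finrank_range_add_finrank_ker ((c : R K V) - t • (1 : R K V))
    unfold rk at ht
    omega
  set W0 := LinearMap.ker ((c : R K V) - (1 : K) • (1 : R K V)) with hW0
  set W1 := LinearMap.ker ((c : R K V) - (ε⁻¹) • (1 : R K V)) with hW1
  set W2 := LinearMap.ker ((c : R K V) - (ε⁻¹ * ε⁻¹) • (1 : R K V)) with hW2
  have hmem : ∀ (t : K) (x : V), x ∈ LinearMap.ker ((c : R K V) - t • (1 : R K V)) ↔ (c : R K V) x = t • x := by
    intro t x
    rw [LinearMap.mem_ker, LinearMap.sub_apply, LinearMap.smul_apply, Module.End.one_apply, sub_eq_zero]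
  have hd01 : W0 ⊓ W1 = ⊥ := by
    rw [eq_bot_iff]
    rintro x ⟨hx0, hx1⟩
    have h1 := (hmem _ x).1 hx0
    have h2 := (hmem _ x).1 hx1
    rw [h1] at h2
    have h3 : (1 - ε⁻¹) • x = 0 := by rw [sub_smul, h2, sub_self]
    rcases smul_eq_zero.1 h3 with h4 | h4
    · exfalso
      apply hε
      have : ε⁻¹ = 1 := by linear_combination -h4
      rw [← inv_inv ε, this, inv_one]
    · exact h4
  have hd2 : (W0 ⊔ W1) ⊓ W2 = ⊥ := by
    rw [eq_bot_iff]
    rintro x ⟨hx01, hx2⟩
    obtain ⟨y, hy, z, hz, rfl⟩ := Submodule.mem_sup.1 hx01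
    have h1 := (hmem _ y).1 hy
    have h2 := (hmem _ z).1 hz
    have h3 := (hmem _ _).1 hx2
    rw [map_add, h1, h2] at h3
    -- `y + ε⁻¹ z = ε⁻² (y + z)`
    have h4 : (1 - ε⁻¹ * ε⁻¹) • y = (ε⁻¹ * ε⁻¹ - ε⁻¹) • z := by
      have : (1 : K) • y + ε⁻¹ • z - ((ε⁻¹ * ε⁻¹) • (y + z)) = 0 := by rw [h3, sub_self]
      rw [smul_add] at this
      rw [sub_smul, sub_smul, ← sub_eq_zero, ← this]
      abel
    have h5 : (1 - ε⁻¹ * ε⁻¹) • y ∈ W0 ⊓ W1 :=
      ⟨Submodule.smul_mem _ _ hy, h4 ▸ Submodule.smul_mem _ _ hz⟩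
    rw [hd01] at h5
    have h6 : (1 - ε⁻¹ * ε⁻¹) • y = 0 := h5
    have h7 : y = 0 := by
      rcases smul_eq_zero.1 h6 with h8 | h8
      · exfalso
        apply hε2
        have h9 : ε⁻¹ * ε⁻¹ = 1 := by linear_combination -h8
        have h10 : ε ^ 2 = (ε⁻¹ * ε⁻¹)⁻¹ := by rw [mul_inv, inv_inv, sq]
        rw [h10, h9, inv_one]
      · exact h8
    have h8 : z = 0 := by
      rw [h7, smul_zero] at h4
      rcases smul_eq_zero.1 h4.symm with h9 | h9
      · exfalso
        apply hε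
        have h10 : ε⁻¹ * (ε⁻¹ - 1) = 0 := by linear_combination h9
        rcases mul_eq_zero.1 h10 with h11 | h11
        · exact absurd h11 (inv_ne_zero hε0)
        · have : ε⁻¹ = 1 := by linear_combination h11
          rw [← inv_inv ε, this, inv_one]
      · exact h9
    rw [h7, h8, add_zero]
    exact Submodule.zero_mem _
  have e1 := Submodule.finrank_sup_add_finrank_inf_eq W0 W1
  have e2 := Submodule.finrank_sup_add_finrank_inf_eq (W0 ⊔ W1) W2
  rw [hd01, finrank_bot] at e1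
  rw [hd2, finrank_bot] at e2
  have e3 := Submodule.finrank_le ((W0 ⊔ W1) ⊔ W2)
  have k0 : 3 ≤ finrank K W0 := hker _ hr0
  have k1 : 3 ≤ finrank K W1 := hker _ hr1
  have k2 : 3 ≤ finrank K W2 := hker _ hr2
  omega

end rank

end Cfsg.Agent.H716.FC
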