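import Cfsg.Agent.H716.FC.TwoMain
import Cfsg.Agent.H563.FC.MT
import Cfsg.Agent.H786.FC.Parts

/-!
# S5764: extraspecial type normalizers, `n` even, `n ≥ 4` (helper716)
-/

set_option autoImplicit false

namespace Cfsg.Agent.H716.FC
open Cfsg.Agent.H198.FC Module

universe u v

/-- **`StmtC6` for even `n ≥ 4`** -/
theorem stmtC6_even : Cfsg.Agent.H786.FC.StmtC6On.{u, v} (fun n => 4 ≤ n ∧ Even n) := by
  intro K _ _ V _ _ _ S hSR _ hS A r a hD hn
  have hr : r = 2 := by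
    have h1 : 2 ∣ r ^ a := by rw [← hD.2.2.1]; exact hn.2.two_dvd
    have h2 := Nat.prime_two.dvd_of_dvd_pow h1
    rcases (Nat.dvd_prime hD.1).1 h2 with h3 | h3
    · omega
    · exact h3.symm
  subst hr
  have ha : 2 ≤ a := by
    by_contra hcon
    have h1 : a = 1 ∨ a = 0 := by omega
    have h2 := hD.2.2.1
    rcases h1 with rfl | rfl <;> rw [h2] at hn <;> norm_num at hn
  obtain ⟨x, hx1, hx⟩ := Dat.c6two hSR hD ha
  exact Cfsg.Agent.H563.FC.mtL hD hS x hx1 hx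

/-- `StmtC6` for `n = 4` -/
theorem stmtC6_four : Cfsg.Agent.H786.FC.StmtC6On.{u, v} (fun n => n = 4) := by
  intro K _ _ V _ _ _ S hSR h2 hS A r a hD hn
  exact stmtC6_even K V S hSR h2 hS A r a hD ⟨by omega, by rw [hn]; decide⟩

end Cfsg.Agent.H716.FC
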