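import Cfsg.Agent.H716.FC.C6x
import Cfsg.Agent.H563.FC.MT
import Cfsg.Agent.H786.FC.Parts

/-!
# S5764: extraspecial type normalizers, `n ≥ 7` (helper716)
-/

set_option autoImplicit false

namespace Cfsg.Agent.H716.FC
open Cfsg.Agent.H198.FC Module

universe u v

/-- **`StmtC6` for `n ≥ 7`** -/
theorem stmtC6_ge7 : Cfsg.Agent.H786.FC.StmtC6On.{u, v} (fun n => 7 ≤ n) := by
  intro K _ _ V _ _ _ S hSR _ hS A r a hD hn
  obtain ⟨x, hx1, hx, -⟩ := c6x hSR hD hn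
  exact Cfsg.Agent.H563.FC.mtL hD hS x hx1 hx

end Cfsg.Agent.H716.FC
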