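import Cfsg.Agent.H716.FC.ExZ

/-!
# S5764, L-C6x (helper716)
-/

set_option autoImplicit false

namespace Cfsg.Agent.H716.FC
open Cfsg.Agent.H198.FC Module

universe u v

variable {K : Type u} [Field K] {V : Type v} [AddCommGroup V] [Module K V]

theorem rk_le_one [Module.Finite K V] {Z : R K V} (h : ∀ Y : R K V, ∃ t : K, Z * Y * Z = t • Z) : rk Z ≤ 1 := by
  by_cases hZ : Z = 0
  · rw [hZ]
    unfold rk
    rw [LinearMap.range_zero, finrank_bot]
    exact Nat.zero_le _
  · have h1 : ∃ v : V, Z v ≠ 0 := by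
      by_contra hcon
      push Not at hcon
      exact hZ (LinearMap.ext hcon)
    obtain ⟨v, hv⟩ := h1
    unfold rk
    have h2 : LinearMap.range Z ≤ Submodule.span K {Z v} := by
      rintro _ ⟨x, rfl⟩
      obtain ⟨ψ, hψ⟩ := Module.Projective.exists_dual_eq_one K hv
      obtain ⟨t, ht⟩ := h (ψ.smulRight x)
      have h3 := congrArg (fun Y : R K V => Y v) ht
      change Z (ψ (Z v) • x) = t • Z v at h3
      rw [hψ, one_smul] at h3
      rw [h3]
      exact Submodule.smul_mem _ _ (Submodule.mem_span_singleton_self _)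
    exact (Submodule.finrank_mono h2).trans (finrank_span_le_card {Z v} |>.trans (by simp))

namespace Dat

variable {A : Subgroup (Equiv.Perm (R K V))} {r a : ℕ}

/-- elements of small rank in the normalizer -/
theorem eq_one_of_rk [Module.Finite K V] (h : Dat A r a) (hn : finrank K V = 7 ∨ 9 ≤ finrank K V) {g : (R K V)ˣ}
    (hg : ∀ α ∈ A, cj K V g * α * (cj K V g)⁻¹ ∈ A) (hrk : rk ((g : R K V) - 1) ≤ 2) : g = 1 := by
  haveI := h.nontriv
  have h7 : ∀ ε : K, ε ≠ 1 → ε ^ r = 1 → finrank K V = 7 → ε ^ 2 ≠ 1 := by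
    intro ε h1 h2 h3 h4
    apply h1
    have hr7 : r = 7 := by
      have h5 : r ∣ 7 := by
        rw [← h3, h.hn]
        exact dvd_pow_self r (by have := h.ha; omega)
      rcases (Nat.dvd_prime (by norm_num)).1 h5 with h6 | h6
      · exact absurd h6 h.pr.one_lt.ne'
      · exact h6
    rw [hr7] at h2
    calc ε = ε ^ 7 * ((ε ^ 2) ^ 3)⁻¹ := by
            rw [h4, one_pow, inv_one, mul_one]
            calc ε = ε * (ε ^ 2) ^ 3 := by rw [h4]; ring
              _ = ε ^ 7 := by ring
      _ = 1 := by rw [h2, h4]; simp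
  have hu : ∀ u ∈ Lf A, g * u * g⁻¹ * u⁻¹ ∈ Lf A := by
    intro u hu
    refine mul_mem ?_ (inv_mem hu)
    have := hg _ hu
    rw [mem_Lf, map_mul, map_mul, map_inv]
    exact this
  by_cases hall : ∀ u ∈ Lf A, ∃ s : K, ((g * u * g⁻¹ * u⁻¹ : (R K V)ˣ) : R K V) = s • (1 : R K V)
  · by_cases hs : ∃ s : K, (g : R K V) = s • (1 : R K V)
    · obtain ⟨s, hs⟩ := hs
      by_cases hs1 : s = 1
      · apply Units.ext
        rw [hs, hs1, one_smul]
        rfl
      · exfalso
        have h1 : (g : R K V) - 1 = (s - 1) • (1 : R K V) := by rw [hs, sub_smul, one_smul]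
        rw [h1, rk_smul_one (sub_ne_zero.2 hs1)] at hrk
        omega
    · exfalso
      have hc : ∀ v ∈ Lf A, ∃ ε : K, (v : R K V) * g = ε • ((g : R K V) * v) := by
        intro v hv
        obtain ⟨s, hs⟩ := hall v⁻¹ (inv_mem hv)
        refine ⟨s, ?_⟩
        have h2 := congrArg (fun Z : R K V => ((g * v * g⁻¹ : (R K V)ˣ) : R K V) * Z * (g : R K V)) hs
        have h3 : ((g * v * g⁻¹ : (R K V)ˣ) : R K V) * ((g * v⁻¹ * g⁻¹ * v⁻¹⁻¹ : (R K V)ˣ) : R K V) * (g : R K V) =
            ((v * g : (R K V)ˣ) : R K V) := by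
          rw [← Units.val_mul, ← Units.val_mul]
          congr 1
          group
        rw [h3, mul_smul_comm, smul_mul_assoc, mul_one] at h2
        rw [← Units.val_mul, h2]
        simp [mul_assoc]
      obtain ⟨v, hv, ε, hε, hε1⟩ := h.exists_eps hs hc
      exact not_rk hε hε1 (h7 ε hε1 (h.eps_pow hv hε)) hn (hrk.trans (by norm_num))
  · push Not at hall
    obtain ⟨u, hu1, hu2⟩ := hall
    exfalso
    obtain ⟨v, hv, ε, hε, hε1⟩ := h.exists_eps (X := ((g * u * g⁻¹ * u⁻¹ : (R K V)ˣ) : R K V))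
      (by push Not; exact hu2) (fun v hv => h.comm hv (hu u hu1))
    apply not_rk hε hε1 (h7 ε hε1 (h.eps_pow hv hε)) hn
    have h1 : ((g * u * g⁻¹ * u⁻¹ : (R K V)ˣ) : R K V) - 1 =
        ((g : R K V) - 1) * ((u : R K V) * ((g⁻¹ : (R K V)ˣ) : R K V) * ((u⁻¹ : (R K V)ˣ) : R K V)) +
          -((u : R K V) * (((g : R K V) - 1) * ((g⁻¹ : (R K V)ˣ) : R K V)) * ((u⁻¹ : (R K V)ˣ) : R K V)) := by
      simp only [Units.val_mul, sub_mul, mul_sub, one_mul, mul_one, mul_assoc, Units.mul_inv]
      abel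
    rw [h1]
    have h2 := rk_mul_right ((g : R K V) - 1) ((u : R K V) * ((g⁻¹ : (R K V)ˣ) : R K V) * ((u⁻¹ : (R K V)ˣ) : R K V))
    have h3 : rk (-((u : R K V) * (((g : R K V) - 1) * ((g⁻¹ : (R K V)ˣ) : R K V)) * ((u⁻¹ : (R K V)ˣ) : R K V))) ≤ 2 :=
      (rk_neg _).trans ((rk_mul_right _ _).trans ((rk_mul_left _ _).trans ((rk_mul_right _ _).trans hrk)))
    have h4 := rk_add (((g : R K V) - 1) * ((u : R K V) * ((g⁻¹ : (R K V)ˣ) : R K V) * ((u⁻¹ : (R K V)ˣ) : R K V)))
      (-((u : R K V) * (((g : R K V) - 1) * ((g⁻¹ : (R K V)ˣ) : R K V)) * ((u⁻¹ : (R K V)ˣ) : R K V)))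
    omega

/-- `n = 8` -/
theorem eq_one_eight [Module.Finite K V] (h : Dat A r a) (hn : finrank K V = 8) {g : (R K V)ˣ}
    (hg : ∀ α ∈ A, cj K V g * α * (cj K V g)⁻¹ ∈ A) {z z' X Y X' Y' : R K V}
    (h1 : (g : R K V) - 1 = z * X + z' * Y) (h2 : (g : R K V) - 1 = X' * z + Y' * z')
    (hz : rk z ≤ 1) (hz' : rk z' ≤ 1)
    (hc : ∀ c ∈ Lf A, (c : R K V) * z = z * c → ∃ s : K, (c : R K V) = s • (1 : R K V)) : g = 1 := by
  haveI := h.nontriv
  have hr2 : r = 2 := by
    have h5 : r ∣ 2 ^ 3 := by
      have : (2 : ℕ) ^ 3 = r ^ a := by rw [← h.hn, hn]; norm_num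
      rw [this]
      exact dvd_pow_self r (by have := h.ha; omega)
    have h6 := h.pr.dvd_of_dvd_pow h5
    rcases (Nat.dvd_prime Nat.prime_two).1 h6 with h7 | h7
    · exact absurd h7 h.pr.one_lt.ne'
    · exact h7
  set N : R K V := (g : R K V) - 1 with hN
  have hrkN : rk N ≤ 2 := by
    rw [h1]
    have := rk_add (z * X) (z' * Y)
    have a1 := (rk_mul_right z X).trans hz
    have a2 := (rk_mul_right z' Y).trans hz'
    omega
  -- two ranks
  have htwo : ∀ {c v : (R K V)ˣ} {ε : K}, (v : R K V) * c = ε • ((c : R K V) * v) → ε ≠ 1 →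
      4 ≤ rk ((c : R K V) - 1) := by
    intro c v ε hvc hε
    have hε0 : ε ≠ 0 := by
      rintro rfl
      rw [zero_smul] at hvc
      exact (v * c).ne_zero (by simpa using hvc)
    have e1 : v * ((c : R K V) - 1) * ((v⁻¹ : (R K V)ˣ) : R K V) = ε • (c : R K V) - 1 := by
      rw [mul_sub, sub_mul, hvc]
      simp [mul_assoc]
    have e2 : rk (ε • (c : R K V) - 1) ≤ rk ((c : R K V) - 1) := by
      rw [← e1]
      exact (rk_mul_right _ _).trans (rk_mul_left _ _)
    have e3 : (ε - 1) • (1 : R K V) = (ε • (c : R K V) - 1) + -(ε • ((c : R K V) - 1)) := by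
      rw [smul_sub, sub_smul, one_smul]
      abel
    have e4 := rk_add (ε • (c : R K V) - 1) (-(ε • ((c : R K V) - 1)))
    rw [← e3, rk_smul_one (sub_ne_zero.2 hε), hn] at e4
    have e5 := (rk_neg (ε • ((c : R K V) - 1))).trans (rk_smul ε _)
    omega
  have hu : ∀ u ∈ Lf A, g * u * g⁻¹ * u⁻¹ ∈ Lf A := by
    intro u hu
    refine mul_mem ?_ (inv_mem hu)
    have := hg _ hu
    rw [mem_Lf, map_mul, map_mul, map_inv]
    exact this
  by_cases hall : ∀ u ∈ Lf A, ∃ s : K, ((g * u * g⁻¹ * u⁻¹ : (R K V)ˣ) : R K V) = s • (1 : R K V)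
  · by_cases hs : ∃ s : K, (g : R K V) = s • (1 : R K V)
    · obtain ⟨s, hs⟩ := hs
      by_cases hs1 : s = 1
      · apply Units.ext
        rw [hs, hs1, one_smul]
        rfl
      · exfalso
        have h1 : N = (s - 1) • (1 : R K V) := by rw [hN, hs, sub_smul, one_smul]
        rw [h1, rk_smul_one (sub_ne_zero.2 hs1)] at hrkN
        omega
    · exfalso
      obtain ⟨v, hv, ε, hε, hε1⟩ := h.exists_eps hs (fun v hv => by
        obtain ⟨s, hs⟩ := hall v⁻¹ (inv_mem hv)
        refine ⟨s, ?_⟩
        have h2 := congrArg (fun Z : R K V => ((g * v * g⁻¹ : (R K V)ˣ) : R K V) * Z * (g : R K V)) hs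
        have h3 : ((g * v * g⁻¹ : (R K V)ˣ) : R K V) * ((g * v⁻¹ * g⁻¹ * v⁻¹⁻¹ : (R K V)ˣ) : R K V) * (g : R K V) =
            ((v * g : (R K V)ˣ) : R K V) := by
          rw [← Units.val_mul, ← Units.val_mul]
          congr 1
          group
        rw [h3, mul_smul_comm, smul_mul_assoc, mul_one] at h2
        rw [← Units.val_mul, h2]
        simp [mul_assoc])
      have h5 : 4 ≤ rk N := htwo hε hε1
      omega
  · push Not at hall
    obtain ⟨u, hu1, hu2⟩ := hall
    exfalso
    set c : (R K V)ˣ := g * u * g⁻¹ * u⁻¹ with hcdef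
    have hcA : c ∈ Lf A := hu u hu1
    obtain ⟨v, hv, ε, hε, hε1⟩ := h.exists_eps (X := (c : R K V)) (by push Not; exact hu2)
      (fun v hv => h.comm hv hcA)
    have h4c := htwo hε hε1
    -- the range
    have hrange : LinearMap.range ((c : R K V) - 1) ≤
        LinearMap.range N ⊔ (LinearMap.range N).map (u : R K V) := by
      have e1 : (c : R K V) - 1 =
          N * ((u : R K V) * ((g⁻¹ : (R K V)ˣ) : R K V) * ((u⁻¹ : (R K V)ˣ) : R K V)) -
            (u : R K V) * (N * (((g⁻¹ : (R K V)ˣ) : R K V) * ((u⁻¹ : (R K V)ˣ) : R K V))) := by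
        rw [hN, hcdef]
        simp only [Units.val_mul, sub_mul, mul_sub, one_mul, mul_assoc]
        rw [← mul_assoc (g : R K V) ((g⁻¹ : (R K V)ˣ) : R K V)]
        simp only [Units.mul_inv, one_mul]
        abel
      rw [e1]
      rintro _ ⟨x, rfl⟩
      rw [LinearMap.sub_apply]
      refine sub_mem ?_ ?_
      · exact Submodule.mem_sup_left ⟨_, rfl⟩
      · exact Submodule.mem_sup_right ⟨_, ⟨_, rfl⟩, rfl⟩
    have hle4 : finrank K ↥(LinearMap.range N ⊔ (LinearMap.range N).map (u : R K V)) ≤ rk N + rk N :=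
      (Submodule.finrank_add_le_finrank_add_finrank _ _).trans
        (Nat.add_le_add_left (Submodule.finrank_map_le _ _) _)
    have hc4 : rk ((c : R K V) - 1) ≤ finrank K ↥(LinearMap.range N ⊔ (LinearMap.range N).map (u : R K V)) :=
      Submodule.finrank_mono hrange
    have hN2 : rk N = 2 := by omega
    have hc4' : rk ((c : R K V) - 1) = 4 := by omega
    have hreq : LinearMap.range ((c : R K V) - 1) = LinearMap.range N ⊔ (LinearMap.range N).map (u : R K V) := by
      apply Submodule.eq_of_le_of_finrank_eq hrange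
      change rk ((c : R K V) - 1) = _
      omega
    have hNz : LinearMap.range N = LinearMap.range z ⊔ LinearMap.range z' := by
      have e1 : LinearMap.range N ≤ LinearMap.range z ⊔ LinearMap.range z' := by
        rw [h1]
        rintro _ ⟨x, rfl⟩
        exact Submodule.add_mem_sup ⟨_, rfl⟩ ⟨_, rfl⟩
      apply Submodule.eq_of_le_of_finrank_eq e1
      have e2 := Submodule.finrank_mono e1
      have e3 := Submodule.finrank_add_le_finrank_add_finrank (LinearMap.range z) (LinearMap.range z')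
      change rk N = _
      change rk N ≤ _ at e2
      change _ ≤ rk z + rk z' at e3
      omega
    -- the kernel
    have hkc : finrank K (LinearMap.ker ((c : R K V) - 1)) = 4 := by
      have := LinearMap.finrank_range_add_finrank_ker ((c : R K V) - 1)
      change rk ((c : R K V) - 1) + _ = _ at this
      omega
    have hkN : finrank K (LinearMap.ker N) = 6 := by
      have := LinearMap.finrank_range_add_finrank_ker N
      change rk N + _ = _ at this
      omega
    have hkN' : finrank K ((LinearMap.ker N).map (u : R K V)) = 6 := by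
      have hinj : Function.Injective (u : R K V) := by
        intro x y hxy
        have e1 : ((u⁻¹ : (R K V)ˣ) : R K V) ((u : R K V) x) = ((u⁻¹ : (R K V)ˣ) : R K V) ((u : R K V) y) := by
          rw [hxy]
        rwa [← Module.End.mul_apply, ← Module.End.mul_apply, Units.inv_mul] at e1
      rw [← (Submodule.equivMapOfInjective (u : R K V) hinj (LinearMap.ker N)).finrank_eq, hkN]
    have hker : LinearMap.ker N ⊓ (LinearMap.ker N).map (u : R K V) = LinearMap.ker ((c : R K V) - 1) := by
      have e1 : LinearMap.ker N ⊓ (LinearMap.ker N).map (u : R K V) ≤ LinearMap.ker ((c : R K V) - 1) := by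
        rintro x ⟨hx1, ⟨y, hy, rfl⟩⟩
        have f1 : (g : R K V) ((u : R K V) y) = (u : R K V) y := by
          have : N ((u : R K V) y) = 0 := hx1
          rw [hN, LinearMap.sub_apply, Module.End.one_apply, sub_eq_zero] at this
          exact this
        have f2 : (g : R K V) y = y := by
          have : N y = 0 := hy
          rw [hN, LinearMap.sub_apply, Module.End.one_apply, sub_eq_zero] at this
          exact this
        have f3 : ((g⁻¹ : (R K V)ˣ) : R K V) y = y := by
          conv_lhs => rw [← f2]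
          rw [← Module.End.mul_apply, Units.inv_mul, Module.End.one_apply]
        have f4 : ((u⁻¹ : (R K V)ˣ) : R K V) ((u : R K V) y) = y := by
          rw [← Module.End.mul_apply, Units.inv_mul, Module.End.one_apply]
        rw [LinearMap.mem_ker, LinearMap.sub_apply, Module.End.one_apply, sub_eq_zero]
        change (g : R K V) ((u : R K V) (((g⁻¹ : (R K V)ˣ) : R K V) (((u⁻¹ : (R K V)ˣ) : R K V) ((u : R K V) y)))) = _
        rw [f4, f3, f1]
      apply Submodule.eq_of_le_of_finrank_eq e1
      have e2 := Submodule.finrank_mono e1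
      have e3 := Submodule.finrank_sup_add_finrank_inf_eq (LinearMap.ker N) ((LinearMap.ker N).map (u : R K V))
      have e4 := Submodule.finrank_le (LinearMap.ker N ⊔ (LinearMap.ker N).map (u : R K V))
      omega
    have hkz : LinearMap.ker z ⊓ LinearMap.ker z' = LinearMap.ker N := by
      have e1 : LinearMap.ker z ⊓ LinearMap.ker z' ≤ LinearMap.ker N := by
        rintro x ⟨hx1, hx2⟩
        have f1 : z x = 0 := hx1
        have f2 : z' x = 0 := hx2
        rw [LinearMap.mem_ker, h2, LinearMap.add_apply, Module.End.mul_apply, Module.End.mul_apply, f1, f2,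
          map_zero, map_zero, add_zero]
      apply Submodule.eq_of_le_of_finrank_eq e1
      have e2 := Submodule.finrank_mono e1
      have e3 := Submodule.finrank_sup_add_finrank_inf_eq (LinearMap.ker z) (LinearMap.ker z')
      have e4 := Submodule.finrank_le (LinearMap.ker z ⊔ LinearMap.ker z')
      have e5 := LinearMap.finrank_range_add_finrank_ker z
      have e6 := LinearMap.finrank_range_add_finrank_ker z'
      change rk z + _ = _ at e5
      change rk z' + _ = _ at e6
      omega
    -- `c² = 1`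
    have hc2 : (c : R K V) * c = 1 := by
      obtain ⟨s, hs⟩ := h.pow_sc hcA
      rw [hr2, sq] at hs
      have e1 : (LinearMap.ker ((c : R K V) - 1)) ≠ ⊥ := by
        intro e2
        rw [e2, finrank_bot] at hkc
        omega
      obtain ⟨x, hx, hx0⟩ := (Submodule.ne_bot_iff _).1 e1
      have e3 : (c : R K V) x = x := by
        rw [LinearMap.mem_ker, LinearMap.sub_apply, Module.End.one_apply, sub_eq_zero] at hx
        exact hx
      have e4 := congrArg (fun Z : R K V => Z x) hs
      change (c : R K V) ((c : R K V) x) = s • x at e4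
      rw [e3, e3] at e4
      have e5 : (1 - s) • x = 0 := by rw [sub_smul, one_smul, ← e4, sub_self]
      rcases smul_eq_zero.1 e5 with e6 | e6
      · rw [hs, ← sub_eq_zero.1 e6, one_smul]
      · exact absurd e6 hx0
    have hcz : (c : R K V) * z = -z := by
      apply LinearMap.ext
      intro x
      have e1 : z x ∈ LinearMap.range ((c : R K V) - 1) := by
        rw [hreq, hNz]
        exact Submodule.mem_sup_left (Submodule.mem_sup_left ⟨x, rfl⟩)
      obtain ⟨y, hy⟩ := e1
      change (c : R K V) (z x) = -(z x)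
      rw [← hy, LinearMap.sub_apply, Module.End.one_apply, map_sub, ← Module.End.mul_apply, hc2,
        Module.End.one_apply]
      abel
    have hzc : z * (c : R K V) = -z := by
      apply LinearMap.ext
      intro x
      have e1 : (c : R K V) x + x ∈ LinearMap.ker z := by
        have e2 : (c : R K V) x + x ∈ LinearMap.ker ((c : R K V) - 1) := by
          rw [LinearMap.mem_ker, LinearMap.sub_apply, Module.End.one_apply, map_add, ← Module.End.mul_apply, hc2,
            Module.End.one_apply]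
          abel
        rw [← hker] at e2
        have e3 := e2.1
        rw [← hkz] at e3
        exact e3.1
      change z ((c : R K V) x) = -(z x)
      rw [LinearMap.mem_ker, map_add] at e1
      exact eq_neg_of_add_eq_zero_left e1
    obtain ⟨s, hs⟩ := hc c hcA (by rw [hcz, hzc])
    exact hu2 s hs

/-- `n ≥ 7` -/
theorem eq_one_gen [Module.Finite K V] (h : Dat A r a) (hn : 7 ≤ finrank K V) {g : (R K V)ˣ}
    (hg : ∀ α ∈ A, cj K V g * α * (cj K V g)⁻¹ ∈ A) {z z' X Y X' Y' : R K V}
    (h1 : (g : R K V) - 1 = z * X + z' * Y) (h2 : (g : R K V) - 1 = X' * z + Y' * z')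
    (hz : rk z ≤ 1) (hz' : rk z' ≤ 1)
    (hc : ∀ c ∈ Lf A, (c : R K V) * z = z * c → ∃ s : K, (c : R K V) = s • (1 : R K V)) : g = 1 := by
  by_cases h8 : finrank K V = 8
  · exact h.eq_one_eight h8 hg h1 h2 hz hz' hc
  · apply h.eq_one_of_rk (by omega) hg
    rw [h1]
    have := rk_add (z * X) (z' * Y)
    have a1 := (rk_mul_right z X).trans hz
    have a2 := (rk_mul_right z' Y).trans hz'
    omega

end Dat

/-- the image of a rank one map -/
theorem rk_image [Module.Finite K V] {f : Equiv.Perm (R K V)} (hf : f ∈ RA K V) {σ : K →+* K}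
    (hσ : ∀ (s : K) (X : R K V), f (s • X) = σ s • f X) (w : V) (φ : Module.Dual K V) :
    rk (f (φ.smulRight w)) ≤ 1 := by
  apply rk_le_one
  intro Y
  obtain ⟨X, rfl⟩ := f.surjective Y
  refine ⟨σ (φ (X w)), ?_⟩
  rw [← hσ, ← zXz]
  rcases hf.2 with h | h
  · rw [h, h]
  · rw [h, h, mul_assoc]

/-- **L-C6x**: a transvection `x` with `C_S(A) ∩ S^x = 1` -/
theorem c6x [Finite K] [Module.Finite K V] {S A : Subgroup (Equiv.Perm (R K V))} {r a : ℕ} (hS : S ≤ RA K V)
    (hC : C6Data S A r a) (hn : 7 ≤ finrank K V) :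
    ∃ x : (R K V)ˣ, LinearMap.det (x : R K V) = 1 ∧
      (∀ f ∈ S, (∀ g ∈ A, f * g = g * f) → cj K V x * f * (cj K V x)⁻¹ ∈ S → f = 1) ∧
      ∀ f ∈ S, (∀ g ∈ A, f * g = g * f) → (cj K V x)⁻¹ * f * cj K V x ∈ S → f = 1 := by
  have h : Dat A r a := Dat.of hC
  have hnorm : ∀ g ∈ S, ∀ f ∈ A, g * f * g⁻¹ ∈ A := hC.2.2.2.2.2.2.2.2.2.1
  haveI := h.nontriv
  obtain ⟨w, φ, hφw, hz0, hpos, hneg⟩ := h.exists_z (by omega)
  set z : R K V := φ.smulRight w with hz
  have hcz : ∀ c ∈ Lf A, (c : R K V) * z = z * c → ∃ s : K, (c : R K V) = s • (1 : R K V) := by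
    intro c hc hcomm
    apply cj_eq_one
    apply hpos _ (RP_le_RA (IN_le_RP (h.hIN hc)))
    · intro g hg
      exact h.hcomm _ hc _ hg
    · exact (cj_mem_RP c).2
    · rw [cj_apply, hcomm, mul_assoc, Units.mul_inv, mul_one]
  have hzz : z * z = 0 := by
    apply LinearMap.ext
    intro v
    change φ (φ v • w) • w = 0
    rw [map_smul, hφw, smul_zero, zero_smul]
  -- the general statement for `t • z`, `t = ± 1`
  have key : ∀ t : K, (t = 1 ∨ t = -1) → ∀ x : (R K V)ˣ, (x : R K V) = 1 + t • z →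
      ((x⁻¹ : (R K V)ˣ) : R K V) = 1 - t • z →
      ∀ f ∈ S, (∀ g ∈ A, f * g = g * f) → cj K V x * f * (cj K V x)⁻¹ ∈ S → f = 1 := by
    intro t ht x hx hxi f hfS hfA hfx
    have hf := hS hfS
    have hf1 := RA_one hf
    obtain ⟨σ, hσ⟩ := exists_sig hf
    have ht0 : t ≠ 0 := by
      rcases ht with rfl | rfl
      · exact one_ne_zero
      · exact neg_ne_zero.2 one_ne_zero
    have hσt : σ t = t := by
      rcases ht with rfl | rfl
      · exact map_one σ
      · rw [map_neg, map_one]
    have hfz : rk (f z) ≤ 1 := rk_image hf hσ w φ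
    have hz1 : rk z ≤ 1 := rk_smulRight φ w
    have hfzz : f z * f z = 0 := by
      rcases hf.2 with hm | hm
      · rw [← hm, hzz, RA_zero hf]
      · rw [← hm, hzz, RA_zero hf]
    have hd : cj K V x * f * (cj K V x)⁻¹ * f⁻¹ ∈ S := mul_mem hfx (inv_mem hfS)
    have hfsub : ∀ X Y : R K V, f (X - Y) = f X - f Y := by
      intro X Y
      rw [eq_sub_iff_add_eq, ← hf.1, sub_add_cancel]
    have hfx1 : f (x : R K V) = 1 + t • f z := by rw [hx, hf.1, hf1, hσ, hσt]
    have hfx2 : f ((x⁻¹ : (R K V)ˣ) : R K V) = 1 - t • f z := by rw [hxi, hfsub, hf1, hσ, hσt]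
    have hci : (cj K V x)⁻¹ = cj K V x⁻¹ := (map_inv _ _).symm
    rcases hf.2 with hm | hm
    · -- automorphism
      let y : (R K V)ˣ := ⟨1 + t • f z, 1 - t • f z, by
        rw [← hfx1, ← hfx2, ← hm, Units.mul_inv, hf1], by
        rw [← hfx1, ← hfx2, ← hm, Units.inv_mul, hf1]⟩
      have hg : cj K V (x * y⁻¹) = cj K V x * f * (cj K V x)⁻¹ * f⁻¹ := by
        apply Equiv.ext
        intro Y
        obtain ⟨X, rfl⟩ := f.surjective Y
        rw [hci]
        change ((x * y⁻¹ : (R K V)ˣ) : R K V) * f X * (((x * y⁻¹)⁻¹ : (R K V)ˣ) : R K V) =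
          x * f ((cj K V x⁻¹) ((f⁻¹ : Equiv.Perm (R K V)) (f X))) * ((x⁻¹ : (R K V)ˣ) : R K V)
        rw [show (f⁻¹ : Equiv.Perm (R K V)) (f X) = X from f.symm_apply_apply X, cj_apply, hm, hm, inv_inv, hfx1, hfx2, mul_inv_rev, inv_inv, Units.val_mul,
          Units.val_mul]
        simp only [mul_assoc]
        rfl
      have h1 : x * y⁻¹ = 1 := by
        apply h.eq_one_gen hn (z := z) (z' := f z) (X := t • (1 - t • f z)) (Y := (-t) • 1) (X' := t • 1)
          (Y' := -(t • (1 + t • z))) _ _ _ hz1 hfz hcz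
        · intro α hα
          rw [hg]
          exact hnorm _ hd α hα
        · rw [Units.val_mul, hx]
          change (1 + t • z) * (1 - t • f z) - 1 = _
          rw [add_mul, one_mul, mul_smul_comm, mul_smul_comm, mul_one, neg_smul, smul_mul_assoc]
          abel
        · rw [Units.val_mul, hx]
          change (1 + t • z) * (1 - t • f z) - 1 = _
          rw [mul_sub, mul_one, mul_smul_comm, smul_mul_assoc, one_mul, neg_mul, smul_mul_assoc]
          abel
      have h2 : x = y := mul_inv_eq_one.1 h1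
      have h3 : (1 : R K V) + t • z = 1 + t • f z := by
        rw [← hx, h2]
      have h4 : t • f z = t • z := (add_left_cancel h3).symm
      exact hpos f hf hfA hm (smul_right_injective _ ht0 h4)
    · -- anti-automorphism
      exfalso
      let y : (R K V)ˣ := ⟨1 + t • f z, 1 - t • f z, by
        rw [← hfx1, ← hfx2, ← hm, Units.inv_mul, hf1], by
        rw [← hfx1, ← hfx2, ← hm, Units.mul_inv, hf1]⟩
      have hg : cj K V (x * y) = cj K V x * f * (cj K V x)⁻¹ * f⁻¹ := by
        apply Equiv.ext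
        intro Y
        obtain ⟨X, rfl⟩ := f.surjective Y
        rw [hci]
        change ((x * y : (R K V)ˣ) : R K V) * f X * (((x * y)⁻¹ : (R K V)ˣ) : R K V) =
          x * f ((cj K V x⁻¹) ((f⁻¹ : Equiv.Perm (R K V)) (f X))) * ((x⁻¹ : (R K V)ˣ) : R K V)
        rw [show (f⁻¹ : Equiv.Perm (R K V)) (f X) = X from f.symm_apply_apply X, cj_apply, hm, hm, inv_inv, hfx1, hfx2, mul_inv_rev, Units.val_mul,
          Units.val_mul]
        simp only [mul_assoc]
        rfl
      have h1 : x * y = 1 := by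
        apply h.eq_one_gen hn (z := z) (z' := f z) (X := t • (1 + t • f z)) (Y := t • 1) (X' := t • 1)
          (Y' := t • (1 + t • z)) _ _ _ hz1 hfz hcz
        · intro α hα
          rw [hg]
          exact hnorm _ hd α hα
        · rw [Units.val_mul, hx]
          change (1 + t • z) * (1 + t • f z) - 1 = _
          rw [add_mul, one_mul, mul_smul_comm, mul_smul_comm, mul_one, smul_mul_assoc]
          abel
        · rw [Units.val_mul, hx]
          change (1 + t • z) * (1 + t • f z) - 1 = _
          rw [mul_add, mul_one, mul_smul_comm, smul_mul_assoc, one_mul, smul_mul_assoc]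
          abel
      have h2 : y = x⁻¹ := eq_inv_of_mul_eq_one_right h1
      have h3 : (1 : R K V) + t • f z = 1 - t • z := by
        rw [← hxi, ← h2]
      have h4 : t • f z = t • (-z) := by
        rw [smul_neg]
        have h5 : (1 : R K V) + t • f z = 1 + -(t • z) := by rw [h3, sub_eq_add_neg]
        exact add_left_cancel h5
      exact hneg f hf hfA hm (smul_right_injective _ ht0 h4)
  have e1 : (1 + z) * (1 - z) = 1 := by
    rw [add_mul, mul_sub, mul_sub, hzz]
    simp
  have e2 : (1 - z) * (1 + z) = 1 := by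
    rw [sub_mul, mul_add, mul_add, hzz]
    simp
  let x : (R K V)ˣ := ⟨1 + z, 1 - z, e1, e2⟩
  refine ⟨x, ?_, ?_, ?_⟩
  · change LinearMap.det (1 + z) = 1
    have h1 : (1 + z : R K V) = LinearMap.transvection φ w := by
      apply LinearMap.ext
      intro v
      rw [LinearMap.transvection.apply]
      rfl
    rw [h1, LinearMap.transvection.det, hφw, add_zero]
  · apply key 1 (Or.inl rfl) x
    · rw [one_smul]
    · rw [one_smul]
      rfl
  · intro f hf hfA hfx
    apply key (-1) (Or.inr rfl) x⁻¹ _ _ f hf hfA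
    · rw [map_inv, inv_inv]; exact hfx
    · rw [neg_smul, one_smul, ← sub_eq_add_neg]
      rfl
    · rw [inv_inv, neg_smul, one_smul, sub_neg_eq_add]

end Cfsg.Agent.H716.FC
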