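import Cfsg.Agent.H716.FC.LagC

/-!
# S5764, L-C6x: the rank one map `z` (helper716)
-/

set_option autoImplicit false

namespace Cfsg.Agent.H716.FC
open Cfsg.Agent.H198.FC Module

universe u v

variable {K : Type u} [Field K] {V : Type v} [AddCommGroup V] [Module K V]

theorem zXz (w : V) (φ : Module.Dual K V) (X : R K V) :
    (φ.smulRight w : R K V) * X * (φ.smulRight w : R K V) = φ (X w) • (φ.smulRight w : R K V) := by
  apply LinearMap.ext
  intro v
  change φ (X (φ v • w)) • w = φ (X w) • φ v • w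
  rw [map_smul, map_smul, smul_eq_mul, smul_smul, mul_comm]

namespace Dat

variable {A : Subgroup (Equiv.Perm (R K V))} {r a : ℕ}

/-- **the rank one nilpotent map moved by all automorphisms centralizing `A`** -/
theorem exists_z [Finite K] [Module.Finite K V] (h : Dat A r a) (h4 : 4 ≤ finrank K V) :
    ∃ (w : V) (φ : Module.Dual K V), φ w = 0 ∧ (φ.smulRight w : R K V) ≠ 0 ∧
      (∀ f ∈ RA K V, (∀ g ∈ A, f * g = g * f) → (∀ X Y, f (X * Y) = f X * f Y) →
        f (φ.smulRight w) = φ.smulRight w → f = 1) ∧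
      (∀ f ∈ RA K V, (∀ g ∈ A, f * g = g * f) → (∀ X Y, f (X * Y) = f Y * f X) →
        f (φ.smulRight w) = -φ.smulRight w → False) := by
  classical
  haveI : Finite (R K V) := finite_R
  haveI : Nontrivial V := h.nontriv
  haveI : Fintype A := Fintype.ofFinite A
  obtain ⟨M, hM1, hM2, hM3⟩ := exists_max (A := A)
  obtain ⟨w, hw⟩ := h.exists_sep hM1 hM2 hM3
  obtain ⟨κ, hκ⟩ := IsCyclic.exists_generator (α := Kˣ)
  obtain ⟨y, hy⟩ := h.exists_rep
  have hyA : ∀ α : A, y α ∈ Lf A := fun α => rep_mem hy α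
  -- the group `L`
  have hLA : M.map (cj K V) ≤ A := by
    rintro _ ⟨m, hm, rfl⟩
    exact hM1 hm
  have hLM : ∀ x ∈ Lf A, cj K V x ∈ M.map (cj K V) → x ∈ M := by
    rintro x hx ⟨m, hm, hmx⟩
    obtain ⟨s, hs⟩ := cj_eq_of hmx.symm
    apply hM3 x hx
    intro v hv
    apply Units.ext
    change (x : R K V) * v = v * x
    have h1 : (m : R K V) * v = v * m := congrArg (fun z : (R K V)ˣ => (z : R K V)) (hM2 m hm v hv)
    rw [hs, smul_mul_assoc, h1, mul_smul_comm]
  obtain ⟨⟨α', hα'⟩, ⟨β', hβ'⟩, hα1, hβ1, hβα, hβαα⟩ :=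
    exists_pair (L := M.map (cj K V)) (h4.trans (h.card_L hM1 hM3))
  set α : A := ⟨α', hLA hα'⟩ with hαdef
  set β : A := ⟨β', hLA hβ'⟩ with hβdef
  have hα1' : α ≠ 1 := fun hh => hα1 (Subtype.ext (congrArg (fun x : A => (x : Equiv.Perm (R K V))) hh))
  have hβ1' : β ≠ 1 := fun hh => hβ1 (Subtype.ext (congrArg (fun x : A => (x : Equiv.Perm (R K V))) hh))
  have hβα' : β ≠ α⁻¹ := fun hh => hβα (Subtype.ext (congrArg (fun x : A => (x : Equiv.Perm (R K V))) hh))
  have hβαα' : β ≠ α⁻¹ * α⁻¹ := fun hh =>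
    hβαα (Subtype.ext (congrArg (fun x : A => (x : Equiv.Perm (R K V))) hh))
  have hu : y α ∈ M := hLM _ (hyA α) (by rw [hy]; exact hα')
  have hv : y β ∈ M := hLM _ (hyA β) (by rw [hy]; exact hβ')
  obtain ⟨s, hs⟩ := exists_rep_smul hy (x := y α * y β) (mul_mem (hyA α) (hyA β))
  have hαβ : (⟨cj K V (y α * y β), mul_mem (hyA α) (hyA β)⟩ : A) = α * β := by
    apply Subtype.ext
    change cj K V (y α * y β) = (α : Equiv.Perm (R K V)) * (β : Equiv.Perm (R K V))
    rw [map_mul, hy, hy]
  rw [hαβ] at hs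
  have hs0 : s ≠ 0 := by
    rintro rfl
    rw [zero_smul] at hs
    exact (y α * y β).ne_zero hs
  -- the coefficients
  set c : A → K := fun δ => if δ = 1 then 0 else if δ = α * β then s⁻¹ * κ else
    if r ≠ 2 ∧ δ = α⁻¹ then 0 else 1 with hc
  obtain ⟨ψ, hψ⟩ := h.exists_psi hy c
  obtain ⟨φ, hφ⟩ := exists_phi (M := M) hw ψ
  have hMC : ∀ m ∈ M, (m : R K V) ∈ Ce M := fun m hm => mem_Ce.2 fun m' hm' =>
    congrArg (fun z : (R K V)ˣ => (z : R K V)) (hM2 m' hm' m hm)
  have hφM : ∀ m ∈ M, φ ((m : R K V) w) = ψ m := fun m hm => hφ _ (hMC m hm)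
  -- values of `c`
  have hαinv : r ≠ 2 → α ≠ α⁻¹ := by
    intro hr hh
    have h1 : α ^ 2 = 1 := by rw [sq]; nth_rewrite 2 [hh]; exact mul_inv_cancel α
    have h2 : α ^ r = 1 := Subtype.ext (h.hpow _ α.2)
    have h3 : orderOf α ∣ 2 := orderOf_dvd_of_pow_eq_one h1
    have h4 : orderOf α ∣ r := orderOf_dvd_of_pow_eq_one h2
    have h5 : Nat.Coprime 2 r := (Nat.coprime_primes Nat.prime_two h.pr).2 (Ne.symm hr)
    have h6 : orderOf α ∣ 1 := by
      rw [← h5]
      exact Nat.dvd_gcd h3 h4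
    exact hα1' (orderOf_eq_one_iff.1 (Nat.dvd_one.1 h6))
  have cα : c α = 1 := by
    simp only [hc]
    rw [if_neg hα1', if_neg, if_neg]
    · rintro ⟨h1, h2⟩
      exact hαinv h1 h2
    · intro h1
      exact hβ1' (left_eq_mul.1 h1)
  have cβ : c β = 1 := by
    simp only [hc]
    rw [if_neg hβ1', if_neg, if_neg]
    · rintro ⟨h1, h2⟩
      exact hβα' h2
    · intro h1
      exact hα1' (right_eq_mul.1 h1)
  have cαβ : c (α * β) = s⁻¹ * κ := by
    change (if α * β = 1 then (0 : K) else if α * β = α * β then s⁻¹ * κ else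
      if r ≠ 2 ∧ α * β = α⁻¹ then 0 else 1) = _
    rw [if_neg, if_pos rfl]
    intro h1
    exact hβα' (eq_inv_of_mul_eq_one_right h1)
  have c1 : c 1 = 0 := if_pos rfl
  have cinv : r ≠ 2 → c α⁻¹ = 0 := by
    intro hr
    change (if α⁻¹ = 1 then (0 : K) else if α⁻¹ = α * β then s⁻¹ * κ else
      if r ≠ 2 ∧ α⁻¹ = α⁻¹ then 0 else 1) = _
    rw [if_neg, if_neg, if_pos ⟨hr, rfl⟩]
    · intro h1
      apply hβαα'
      calc β = α⁻¹ * (α * β) := by group
        _ = α⁻¹ * α⁻¹ := by rw [← h1]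
    · intro h1
      exact hα1' (inv_eq_one.1 h1)
  have cne : ∀ δ : A, δ ≠ 1 → (r ≠ 2 → δ ≠ α⁻¹) → c δ ≠ 0 := by
    intro δ h1 h2
    simp only [hc]
    rw [if_neg h1]
    split_ifs with h3 h4
    · exact mul_ne_zero (inv_ne_zero hs0) κ.ne_zero
    · exact absurd h4.2 (h2 h4.1)
    · exact one_ne_zero
  have tu : φ ((y α : R K V) w) = 1 := by rw [hφM _ hu, hψ, cα]
  have tv : φ ((y β : R K V) w) = 1 := by rw [hφM _ hv, hψ, cβ]
  have tuv : φ (((y α * y β : (R K V)ˣ) : R K V) w) = κ := by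
    rw [hφM _ (mul_mem hu hv), hs, map_smul, hψ, cαβ, smul_eq_mul, ← mul_assoc, mul_inv_cancel₀ hs0, one_mul]
  have t1 : φ w = 0 := by
    have h1 := hφM 1 (one_mem _)
    obtain ⟨s', hs'⟩ := exists_rep_smul hy (x := 1) (one_mem (Lf A))
    have h2 : (⟨cj K V 1, one_mem (Lf A)⟩ : A) = 1 := Subtype.ext (map_one _)
    rw [h2] at hs'
    rw [hs', map_smul, hψ, c1, smul_zero, ← hs'] at h1
    exact h1
  have hw0 : w ≠ 0 := by
    rintro rfl
    have := hw 1 (one_mem _) (by simp)
    exact one_ne_zero this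
  have hz0 : (φ.smulRight w : R K V) ≠ 0 := by
    intro h0
    have h1 := congrArg (fun Z : R K V => Z ((y α : R K V) w)) h0
    change φ ((y α : R K V) w) • w = 0 at h1
    rw [tu, one_smul] at h1
    exact hw0 h1
  set z : R K V := φ.smulRight w with hz
  have hzinj : ∀ s t : K, s • z = t • z → s = t := by
    intro s t hst
    have h1 : (s - t) • z = 0 := by rw [sub_smul, hst, sub_self]
    rcases smul_eq_zero.1 h1 with h2 | h2
    · exact sub_eq_zero.1 h2
    · exact absurd h2 hz0
  refine ⟨w, φ, t1, hz0, ?_, ?_⟩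
  · -- ring automorphisms
    intro f hf hfA hmul hfz
    have hf1 := RA_one hf
    obtain ⟨σ, hσ⟩ := exists_sig hf
    have hlam : ∀ m ∈ M, ∀ l : K, f m = l • (m : R K V) → l * φ ((m : R K V) w) = σ (φ ((m : R K V) w)) := by
      intro m hm l hl
      apply hzinj
      have h1 : f (z * m * z) = f (φ ((m : R K V) w) • z) := by rw [hz, zXz]
      rw [hmul, hmul, hσ, hfz, hl, mul_smul_comm, smul_mul_assoc] at h1
      rw [← h1, mul_smul, hz, zXz]
    have hcomm : ∀ m ∈ M, ∃ l : K, f m = l • (m : R K V) := fun m hm =>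
      lam_pos hmul hf1 (hfA _ (hM1 hm))
    have hfu : f (y α) = y α := by
      obtain ⟨l, hl⟩ := hcomm _ hu
      have h1 := hlam _ hu l hl
      rw [tu, mul_one, map_one] at h1
      rw [hl, h1, one_smul]
    have hfv : f (y β) = y β := by
      obtain ⟨l, hl⟩ := hcomm _ hv
      have h1 := hlam _ hv l hl
      rw [tv, mul_one, map_one] at h1
      rw [hl, h1, one_smul]
    have hfuv : f ((y α * y β : (R K V)ˣ) : R K V) = (1 : K) • ((y α * y β : (R K V)ˣ) : R K V) := by
      rw [one_smul, Units.val_mul, hmul, hfu, hfv]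
    have hσκ : σ κ = κ := by
      have h1 := hlam _ (mul_mem hu hv) 1 hfuv
      rw [tuv, one_mul] at h1
      exact h1.symm
    have hid : ∀ x : K, σ x = x := sig_id hκ σ hσκ
    have hlin : ∀ (s : K) (X : R K V), f (s • X) = s • f X := fun s X => by rw [hσ, hid]
    -- `f` fixes `M`
    have hfix0 : ∀ m ∈ M, φ ((m : R K V) w) ≠ 0 → f m = m := by
      intro m hm ht
      obtain ⟨l, hl⟩ := hcomm m hm
      have h1 := hlam m hm l hl
      rw [hid] at h1
      have h2 : l = 1 := by
        have : (l - 1) * φ ((m : R K V) w) = 0 := by rw [sub_mul, h1]; ring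
        rcases mul_eq_zero.1 this with h3 | h3
        · exact sub_eq_zero.1 h3
        · exact absurd h3 ht
      rw [hl, h2, one_smul]
    have hval : ∀ (m : (R K V)ˣ) (hm : m ∈ M), c ⟨cj K V m, hM1 hm⟩ ≠ 0 → φ ((m : R K V) w) ≠ 0 := by
      intro m hm h0
      obtain ⟨t, ht⟩ := exists_rep_smul hy (x := m) (hM1 hm)
      rw [hφM m hm, ht, map_smul, hψ, smul_eq_mul]
      apply mul_ne_zero _ h0
      rintro rfl
      rw [zero_smul] at ht
      exact m.ne_zero ht
    have hfix : ∀ m ∈ M, f m = m := by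
      intro m hm
      by_cases h1 : cj K V m = 1
      · obtain ⟨t, ht⟩ := cj_eq_one h1
        rw [ht, hlin, hf1]
      by_cases h2 : r ≠ 2 ∧ cj K V m = (α⁻¹ : A)
      · have h3 : f ((m⁻¹ : (R K V)ˣ) : R K V) = ((m⁻¹ : (R K V)ˣ) : R K V) := by
          apply hfix0 _ (inv_mem hm)
          apply hval _ (inv_mem hm)
          have h4 : (⟨cj K V m⁻¹, hM1 (inv_mem hm)⟩ : A) = α := by
            apply Subtype.ext
            change cj K V m⁻¹ = _
            rw [map_inv, h2.2]
            simp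
          rw [h4, cα]
          exact one_ne_zero
        have h5 : f m * f ((m⁻¹ : (R K V)ˣ) : R K V) = 1 := by
          rw [← hmul]; simpa using hf1
        rw [h3] at h5
        have h6 := congrArg (fun Z => Z * (m : R K V)) h5
        simpa [mul_assoc] using h6
      · apply hfix0 m hm
        apply hval m hm
        apply cne
        · intro h3
          exact h1 (congrArg (fun x : A => (x : Equiv.Perm (R K V))) h3)
        · intro h3 h4
          exact h2 ⟨h3, congrArg (fun x : A => (x : Equiv.Perm (R K V))) h4⟩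
    -- `f` is a conjugation
    let F : R K V ≃ₐ[K] R K V :=
      { f with
        map_mul' := hmul
        map_add' := hf.1
        commutes' := by
          intro s
          change f (algebraMap K _ s) = algebraMap K _ s
          rw [Algebra.algebraMap_eq_smul_one, hlin, hf1] }
    have hF : ∀ X, F X = f X := fun X => rfl
    obtain ⟨T, hT⟩ := F.eq_linearEquivConjAlgEquiv
    let g : (R K V)ˣ := ⟨T.toLinearMap, T.symm.toLinearMap, by ext x; simp, by ext x; simp⟩
    have hfg : f = cj K V g := by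
      apply Equiv.ext
      intro X
      rw [← hF, hT]
      rfl
    have hgC : (g : R K V) ∈ Ce M := by
      rw [mem_Ce]
      intro m hm
      have h1 := hfix m hm
      rw [hfg, cj_apply] at h1
      have h2 := congrArg (fun Z => Z * (g : R K V)) h1
      simp only [mul_assoc, Units.inv_mul, mul_one] at h2
      exact h2.symm
    have hgz : (g : R K V) * z = z * g := by
      have h1 := hfz
      rw [hfg, cj_apply] at h1
      have h2 := congrArg (fun Z => Z * (g : R K V)) h1
      simpa only [mul_assoc, Units.inv_mul, mul_one] using h2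
    have hgw : (g : R K V) w = φ ((g : R K V) ((y α : R K V) w)) • w := by
      have h1 := congrArg (fun Z : R K V => Z ((y α : R K V) w)) hgz
      change (g : R K V) (φ ((y α : R K V) w) • w) = φ ((g : R K V) ((y α : R K V) w)) • w at h1
      rwa [tu, one_smul] at h1
    have h1 := hw ((g : R K V) - φ ((g : R K V) ((y α : R K V) w)) • (1 : R K V))
      (sub_mem hgC (Subalgebra.smul_mem _ (one_mem _) _)) (by
        rw [LinearMap.sub_apply, LinearMap.smul_apply, Module.End.one_apply, ← hgw, sub_self])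
    rw [hfg]
    exact cj_eq_one' (sub_eq_zero.1 h1)
  · -- anti-automorphisms
    intro f hf hfA hmul hfz
    have hf1 := RA_one hf
    obtain ⟨σ, hσ⟩ := exists_sig hf
    have hlam : ∀ m ∈ M, ∀ l : K, f m = l • ((m⁻¹ : (R K V)ˣ) : R K V) →
        l * φ (((m⁻¹ : (R K V)ˣ) : R K V) w) = -σ (φ ((m : R K V) w)) := by
      intro m hm l hl
      apply hzinj
      have h1 : f (z * m * z) = f (φ ((m : R K V) w) • z) := by rw [hz, zXz]
      rw [hmul, hmul, hσ, hfz, hl] at h1
      have h2 : -z * (l • ((m⁻¹ : (R K V)ˣ) : R K V) * -z) = l • (z * ((m⁻¹ : (R K V)ˣ) : R K V) * z) := by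
        simp [mul_assoc]
      rw [h2, smul_neg, ← neg_smul, hz, zXz, smul_smul] at h1
      exact h1
    have hcomm : ∀ m ∈ M, ∃ l : K, f m = l • ((m⁻¹ : (R K V)ˣ) : R K V) := fun m hm =>
      lam_neg hmul hf1 (hfA _ (hM1 hm))
    by_cases hr : r = 2
    · have h2 : (2 : K) ≠ 0 := by
        have := h.r_ne_zero
        rw [hr] at this
        exact_mod_cast this
      -- squares are scalars
      have hinv : ∀ m ∈ M, ∃ t : K, t ≠ 0 ∧ (m : R K V) = t • ((m⁻¹ : (R K V)ˣ) : R K V) := by
        intro m hm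
        obtain ⟨t, ht⟩ := h.pow_sc (hM1 hm)
        rw [hr, sq] at ht
        have h3 : (m : R K V) = t • ((m⁻¹ : (R K V)ˣ) : R K V) := by
          have h4 := congrArg (fun Z => Z * ((m⁻¹ : (R K V)ˣ) : R K V)) ht
          simpa [mul_assoc] using h4
        refine ⟨t, ?_, h3⟩
        rintro rfl
        rw [zero_smul] at h3
        exact m.ne_zero h3
      obtain ⟨tu', htu0, htu⟩ := hinv _ hu
      obtain ⟨tv', htv0, htv⟩ := hinv _ hv
      obtain ⟨lu, hlu⟩ := hcomm _ hu
      obtain ⟨lv, hlv⟩ := hcomm _ hv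
      have e1 := hlam _ hu lu hlu
      have e2 := hlam _ hv lv hlv
      rw [tu, map_one] at e1
      rw [tv, map_one] at e2
      have a1 : tu' * φ ((((y α)⁻¹ : (R K V)ˣ) : R K V) w) = 1 := by
        rw [← tu]
        conv_rhs => rw [htu]
        rw [LinearMap.smul_apply, map_smul, smul_eq_mul]
      have a2 : tv' * φ ((((y β)⁻¹ : (R K V)ˣ) : R K V) w) = 1 := by
        rw [← tv]
        conv_rhs => rw [htv]
        rw [LinearMap.smul_apply, map_smul, smul_eq_mul]
      have b1 : lu = -tu' := by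
        have : lu * (tu' * φ ((((y α)⁻¹ : (R K V)ˣ) : R K V) w)) = -tu' := by
          rw [mul_left_comm, e1]; ring
        rwa [a1, mul_one] at this
      have b2 : lv = -tv' := by
        have : lv * (tv' * φ ((((y β)⁻¹ : (R K V)ˣ) : R K V) w)) = -tv' := by
          rw [mul_left_comm, e2]; ring
        rwa [a2, mul_one] at this
      have huvc : (y α : R K V) * y β = y β * y α := congrArg (fun z : (R K V)ˣ => (z : R K V)) (hM2 _ hu _ hv)
      have hfuv : f ((y α * y β : (R K V)ˣ) : R K V) =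
          (lu * lv) • (((y α * y β)⁻¹ : (R K V)ˣ) : R K V) := by
        rw [Units.val_mul, hmul, hlu, hlv, mul_inv_rev, Units.val_mul, smul_mul_assoc, mul_smul_comm, smul_smul,
          mul_comm lv lu]
      have e3 := hlam _ (mul_mem hu hv) (lu * lv) hfuv
      rw [tuv] at e3
      have a3 : (tu' * tv') * φ ((((y α * y β)⁻¹ : (R K V)ˣ) : R K V) w) = κ := by
        rw [← tuv]
        have h3 : ((y α * y β : (R K V)ˣ) : R K V) = (tu' * tv') • (((y α * y β)⁻¹ : (R K V)ˣ) : R K V) := by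
          rw [Units.val_mul, huvc]
          conv_lhs => rw [htu, htv]
          rw [mul_inv_rev, Units.val_mul, smul_mul_assoc, mul_smul_comm, smul_smul, mul_comm tv' tu']
        conv_rhs => rw [h3]
        rw [LinearMap.smul_apply, map_smul, smul_eq_mul]
      rw [b1, b2, neg_mul_neg, a3] at e3
      exact sig_neg hκ h2 σ (neg_eq_iff_eq_neg.2 e3).symm
    · obtain ⟨l, hl⟩ := hcomm _ hu
      have h1 := hlam _ hu l hl
      have h2 : φ ((((y α)⁻¹ : (R K V)ˣ) : R K V) w) = 0 := by
        rw [hφM _ (inv_mem hu)]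
        obtain ⟨t, ht⟩ := exists_rep_smul hy (x := (y α)⁻¹) (inv_mem (hyA α))
        have h3 : (⟨cj K V (y α)⁻¹, inv_mem (hyA α)⟩ : A) = α⁻¹ := by
          apply Subtype.ext
          change cj K V (y α)⁻¹ = _
          rw [map_inv, hy]
          rfl
        rw [h3] at ht
        rw [ht, map_smul, hψ, cinv hr, smul_zero]
      rw [h2, mul_zero, tu, map_one] at h1
      exact one_ne_zero (neg_eq_zero.1 h1.symm)

end Dat

end Cfsg.Agent.H716.FC
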