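import Cfsg.Agent.H716.FC.Sc

/-!
# S5764, L-C6x: a maximal commutative group of lifts, separating vector (helper716)
-/

set_option autoImplicit false

namespace Cfsg.Agent.H716.FC
open Cfsg.Agent.H198.FC Module

universe u v

variable {K : Type u} [Field K] {V : Type v} [AddCommGroup V] [Module K V]

/-- the units inducing elements of `A` -/
def Lf (A : Subgroup (Equiv.Perm (R K V))) : Subgroup (R K V)ˣ := A.comap (cj K V)

theorem mem_Lf {A : Subgroup (Equiv.Perm (R K V))} {u : (R K V)ˣ} : u ∈ Lf A ↔ cj K V u ∈ A := Iff.rfl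

/-- what is used of `C6Data` -/
structure Dat (A : Subgroup (Equiv.Perm (R K V))) (r a : ℕ) : Prop where
  pr : r.Prime
  ha : 1 ≤ a
  hn : finrank K V = r ^ a
  hIN : A ≤ IN K V
  hcard : Nat.card A = r ^ (2 * a)
  hpow : ∀ f ∈ A, f ^ r = 1
  hcomm : ∀ f ∈ A, ∀ g ∈ A, f * g = g * f
  hspan : Submodule.span K {X : R K V | ∃ x : (R K V)ˣ, (x : R K V) = X ∧ cj K V x ∈ A} = ⊤

theorem Dat.of {S A : Subgroup (Equiv.Perm (R K V))} {r a : ℕ} (h : C6Data S A r a) : Dat A r a := by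
  obtain ⟨h1, h2, h3, -, h5, h6, h7, h8, h9, -⟩ := h
  exact ⟨h1, h2, h3, h5, h6, h7, h8, h9⟩

namespace Dat

variable {A : Subgroup (Equiv.Perm (R K V))} {r a : ℕ}

theorem one_lt (h : Dat A r a) : 1 < finrank K V := by
  rw [h.hn]
  exact Nat.one_lt_pow (by have := h.ha; omega) h.pr.one_lt

theorem nontriv (h : Dat A r a) [Module.Finite K V] : Nontrivial V := by
  rw [← Module.finrank_pos_iff (R := K)]
  have := h.one_lt
  omega

/-- commutators are scalars -/
theorem comm (h : Dat A r a) {u v : (R K V)ˣ} (hu : u ∈ Lf A) (hv : v ∈ Lf A) :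
    ∃ ε : K, (u : R K V) * v = ε • ((v : R K V) * u) :=
  comm_sc (h.hcomm _ hu _ hv)

theorem pow_sc (h : Dat A r a) {u : (R K V)ˣ} (hu : u ∈ Lf A) : ∃ s : K, (u : R K V) ^ r = s • (1 : R K V) := by
  have h1 : cj K V (u ^ r) = 1 := by rw [map_pow]; exact h.hpow _ hu
  obtain ⟨s, hs⟩ := cj_eq_one h1
  exact ⟨s, by rw [← hs]; simp⟩

/-- the centre -/
theorem sc_of_comm' (h : Dat A r a) {X : R K V} (hX : ∀ u ∈ Lf A, X * u = u * X) : ∃ s : K, X = s • (1 : R K V) := by
  apply sc_of_comm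
  intro Y
  have hY : Y ∈ Submodule.span K {X : R K V | ∃ x : (R K V)ˣ, (x : R K V) = X ∧ cj K V x ∈ A} := by
    rw [h.hspan]; trivial
  induction hY using Submodule.span_induction with
  | mem Z hZ =>
    obtain ⟨x, rfl, hx⟩ := hZ
    exact hX x hx
  | zero => simp
  | add Y Z _ _ hY hZ => rw [mul_add, add_mul, hY, hZ]
  | smul s Y _ hY => rw [mul_smul_comm, smul_mul_assoc, hY]

theorem eps_pow [Module.Finite K V] (h : Dat A r a) {g v : (R K V)ˣ} (hv : v ∈ Lf A) {ε : K}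
    (hε : (v : R K V) * g = ε • ((g : R K V) * v)) : ε ^ r = 1 := by
  haveI := h.nontriv
  have h1 : ∀ k : ℕ, (v : R K V) ^ k * g = ε ^ k • ((g : R K V) * (v : R K V) ^ k) := by
    intro k
    induction k with
    | zero => simp
    | succ k ih =>
      rw [pow_succ', mul_assoc, ih, mul_smul_comm, ← mul_assoc, hε, smul_mul_assoc, smul_smul, mul_assoc,
        ← pow_succ', ← pow_succ]
  obtain ⟨s, hs⟩ := h.pow_sc hv
  have h2 := h1 r
  rw [hs] at h2
  have hs0 : s ≠ 0 := by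
    rintro rfl
    rw [zero_smul] at hs
    exact (v ^ r).ne_zero (by simpa using hs)
  have h3 : (1 : K) • (g : R K V) = ε ^ r • (g : R K V) := by
    have h4 := congrArg (fun X => s⁻¹ • X) h2
    simp only [smul_mul_assoc, one_mul, mul_smul_comm, mul_one] at h4
    rw [smul_smul, inv_mul_cancel₀ hs0, smul_comm, smul_smul s⁻¹, inv_mul_cancel₀ hs0, one_smul] at h4
    rw [one_smul]
    exact h4
  exact (smul_inj_unit h3).symm

/-- a non-scalar unit normalized up to scalars is moved -/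
theorem exists_eps (h : Dat A r a) {X : R K V} (hX : ¬ ∃ s : K, X = s • (1 : R K V))
    (hc : ∀ v ∈ Lf A, ∃ ε : K, (v : R K V) * X = ε • (X * v)) :
    ∃ v ∈ Lf A, ∃ ε : K, (v : R K V) * X = ε • (X * v) ∧ ε ≠ 1 := by
  by_contra hcon
  push Not at hcon
  apply hX
  apply h.sc_of_comm'
  intro u hu
  obtain ⟨ε, hε⟩ := hc u hu
  have := hcon u hu ε hε
  rw [this, one_smul] at hε
  exact hε.symm

theorem exists_nonsc [Module.Finite K V] (h : Dat A r a) : ∃ u ∈ Lf A, ¬ ∃ s : K, (u : R K V) = s • (1 : R K V) := by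
  by_contra hcon
  push Not at hcon
  have h1 : A = ⊥ := by
    rw [eq_bot_iff]
    intro f hf
    obtain ⟨x, rfl⟩ := h.hIN hf
    obtain ⟨s, hs⟩ := hcon x hf
    exact cj_eq_one' hs
  have h2 := h.hcard
  rw [h1, Subgroup.card_bot] at h2
  have h3 : 1 < r ^ (2 * a) := Nat.one_lt_pow (by have := h.ha; omega) h.pr.one_lt
  omega

theorem r_ne_zero [Module.Finite K V] (h : Dat A r a) : (r : K) ≠ 0 := by
  intro hr
  obtain ⟨u, hu, hns⟩ := h.exists_nonsc
  obtain ⟨v, hv, ε, hε, hε1⟩ := h.exists_eps hns fun v hv => h.comm hv hu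
  have h1 := h.eps_pow hv hε
  haveI : Fact r.Prime := ⟨h.pr⟩
  haveI : CharP K r := by
    obtain ⟨c, hc⟩ := CharP.exists K
    have h2 : c ∣ r := (CharP.cast_eq_zero_iff K c r).1 hr
    rcases (Nat.dvd_prime h.pr).1 h2 with h3 | h3
    · exfalso
      subst h3
      exact CharP.char_ne_one K 1 rfl
    · rwa [h3] at hc
  apply hε1
  have h2 : (ε - 1) ^ r = 0 := by rw [sub_pow_char, h1]; simp
  exact sub_eq_zero.1 (pow_eq_zero_iff h.pr.ne_zero |>.1 h2)

theorem n_ne_zero [Module.Finite K V] (h : Dat A r a) : (finrank K V : K) ≠ 0 := by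
  rw [h.hn, Nat.cast_pow]
  exact pow_ne_zero _ h.r_ne_zero

theorem trace_zero [Module.Finite K V] (h : Dat A r a) {u : (R K V)ˣ} (hu : u ∈ Lf A)
    (hns : ¬ ∃ s : K, (u : R K V) = s • (1 : R K V)) : LinearMap.trace K V (u : R K V) = 0 := by
  obtain ⟨v, hv, ε, hε, hε1⟩ := h.exists_eps hns fun v hv => h.comm hv hu
  have h1 : LinearMap.trace K V ((v : R K V) * u * ((v⁻¹ : (R K V)ˣ) : R K V)) = LinearMap.trace K V (u : R K V) := by
    rw [LinearMap.trace_mul_comm]
    congr 1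
    simp [← mul_assoc]
  rw [hε] at h1
  have h2 : (ε • ((u : R K V) * v)) * ((v⁻¹ : (R K V)ˣ) : R K V) = ε • (u : R K V) := by
    simp [mul_assoc]
  rw [h2, map_smul, smul_eq_mul] at h1
  have h3 : (ε - 1) * LinearMap.trace K V (u : R K V) = 0 := by rw [sub_mul, h1]; ring
  rcases mul_eq_zero.1 h3 with h4 | h4
  · exact absurd (sub_eq_zero.1 h4) hε1
  · exact h4

end Dat

end Cfsg.Agent.H716.FC
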