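import Cfsg.Agent.H716.FC.Lag

/-!
# S5764, L-C6x: a maximal commutative group of lifts, separating vector (helper716)
-/

set_option autoImplicit false

namespace Cfsg.Agent.H716.FC
open Cfsg.Agent.H198.FC Module

universe u v

variable {K : Type u} [Field K] {V : Type v} [AddCommGroup V] [Module K V]

theorem finite_R [Finite K] [Module.Finite K V] : Finite (R K V) := by
  haveI : Finite V := Module.finite_of_finite K
  exact Finite.of_injective (fun f : R K V => (f : V → V)) DFunLike.coe_injective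

namespace Dat

variable {A : Subgroup (Equiv.Perm (R K V))} {r a : ℕ}

theorem exists_rep (h : Dat A r a) : ∃ y : A → (R K V)ˣ, ∀ α : A, cj K V (y α) = α := by
  have h1 : ∀ α : A, ∃ x : (R K V)ˣ, cj K V x = α := fun α => h.hIN α.2
  choose y hy using h1
  exact ⟨y, hy⟩

section rep

variable [Module.Finite K V] [Fintype A] {y : A → (R K V)ˣ} (hy : ∀ α : A, cj K V (y α) = α)

include hy

theorem rep_mem (α : A) : y α ∈ Lf A := by
  rw [mem_Lf, hy]; exact α.2

open Classical in
theorem trace_rep (h : Dat A r a) (α β : A) :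
    LinearMap.trace K V ((y β : R K V) * (((y α)⁻¹ : (R K V)ˣ) : R K V)) = if α = β then (finrank K V : K) else 0 := by
  split_ifs with hαβ
  · subst hαβ
    simp
  · have h1 := h.trace_zero (u := y β * (y α)⁻¹) (mul_mem (rep_mem hy β) (inv_mem (rep_mem hy α))) ?_
    · simpa using h1
    · rintro ⟨s, hs⟩
      have h2 := cj_eq_one' hs
      rw [map_mul, map_inv, hy, hy, mul_inv_eq_one] at h2
      exact hαβ (Subtype.ext h2.symm)

theorem exists_rep_smul {x : (R K V)ˣ} (hx : x ∈ Lf A) : ∃ s : K, (x : R K V) = s • (y ⟨cj K V x, hx⟩ : R K V) := by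
  apply cj_eq_of
  rw [hy]

theorem expand (h : Dat A r a) (X : R K V) :
    (finrank K V : K) • X =
      ∑ α : A, LinearMap.trace K V (X * (((y α)⁻¹ : (R K V)ˣ) : R K V)) • (y α : R K V) := by
  classical
  have hX : X ∈ Submodule.span K {X : R K V | ∃ x : (R K V)ˣ, (x : R K V) = X ∧ cj K V x ∈ A} := by
    rw [h.hspan]; trivial
  induction hX using Submodule.span_induction with
  | mem Z hZ =>
    obtain ⟨x, rfl, hx⟩ := hZ
    obtain ⟨s, hs⟩ := exists_rep_smul hy (x := x) hx
    rw [hs]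
    simp only [smul_mul_assoc, map_smul]
    rw [Finset.sum_eq_single (⟨cj K V x, hx⟩ : A)]
    · rw [h.trace_rep hy, if_pos rfl, smul_eq_mul, smul_smul, mul_comm]
    · intro α _ hα
      rw [h.trace_rep hy, if_neg hα, smul_zero, zero_smul]
    · intro hα
      exact absurd (Finset.mem_univ _) hα
  | zero => simp
  | add Y Z _ _ hY hZ =>
    rw [smul_add, hY, hZ, ← Finset.sum_add_distrib]
    apply Finset.sum_congr rfl
    intro α _
    rw [add_mul, map_add, add_smul]
  | smul s Y _ hY =>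
    rw [smul_comm, hY, Finset.smul_sum]
    apply Finset.sum_congr rfl
    intro α _
    rw [smul_mul_assoc, map_smul, smul_eq_mul, smul_smul]

/-- a functional with prescribed values on the representatives -/
theorem exists_psi (h : Dat A r a) (c : A → K) : ∃ ψ : R K V →ₗ[K] K, ∀ β : A, ψ (y β) = c β := by
  classical
  refine ⟨(finrank K V : K)⁻¹ • ∑ α : A, c α • ((LinearMap.trace K V).comp
    (LinearMap.mulRight K (((y α)⁻¹ : (R K V)ˣ) : R K V))), fun β => ?_⟩
  rw [LinearMap.smul_apply, LinearMap.sum_apply]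
  simp only [LinearMap.smul_apply, LinearMap.comp_apply, LinearMap.mulRight_apply]
  rw [Finset.sum_eq_single β]
  · rw [h.trace_rep hy, if_pos rfl, smul_eq_mul, smul_eq_mul]
    field_simp [h.n_ne_zero]
  · intro α _ hα
    rw [h.trace_rep hy, if_neg hα, smul_zero]
  · intro hα
    exact absurd (Finset.mem_univ _) hα

end rep

/-- a maximal commutative group of lifts -/
theorem exists_max [Finite K] [Module.Finite K V] : ∃ M : Subgroup (R K V)ˣ, M ≤ Lf A ∧
    (∀ u ∈ M, ∀ v ∈ M, u * v = v * u) ∧ ∀ u ∈ Lf A, (∀ v ∈ M, u * v = v * u) → u ∈ M := by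
  haveI : Finite (R K V) := finite_R
  obtain ⟨M, ⟨hM1, hM2⟩, hM3⟩ := Set.exists_max_image
    {M : Subgroup (R K V)ˣ | M ≤ Lf A ∧ ∀ u ∈ M, ∀ v ∈ M, u * v = v * u} (fun M => Nat.card M)
    (Set.toFinite _) ⟨⊥, bot_le, by
      intro u hu v hv
      rw [Subgroup.mem_bot] at hu hv
      rw [hu, hv]⟩
  refine ⟨M, hM1, hM2, fun u hu huM => ?_⟩
  have h1 : ((M : Set (R K V)ˣ) ∪ {u}) ⊆ Subgroup.centralizer ((M : Set (R K V)ˣ) ∪ {u}) := by
    intro x hx
    rw [SetLike.mem_coe, Subgroup.mem_centralizer_iff]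
    intro z hz
    rcases hx with hx | rfl <;> rcases hz with hz | rfl
    · exact hM2 z hz x hx
    · exact huM x hx
    · exact (huM z hz).symm
    · rfl
  have h2 : Subgroup.closure ((M : Set (R K V)ˣ) ∪ {u}) ≤ Subgroup.centralizer ((M : Set (R K V)ˣ) ∪ {u}) :=
    (Subgroup.closure_le _).2 h1
  have h3 : Subgroup.closure ((M : Set (R K V)ˣ) ∪ {u}) ≤
      Subgroup.centralizer (Subgroup.closure ((M : Set (R K V)ˣ) ∪ {u}) : Set (R K V)ˣ) := by
    rw [Subgroup.closure_le]
    intro x hx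
    rw [SetLike.mem_coe, Subgroup.mem_centralizer_iff]
    intro z hz
    exact (Subgroup.mem_centralizer_iff.1 (h2 hz) x hx).symm
  have h4 : M ≤ Subgroup.closure ((M : Set (R K V)ˣ) ∪ {u}) :=
    fun x hx => Subgroup.subset_closure (Or.inl hx)
  have h5 : Nat.card (Subgroup.closure ((M : Set (R K V)ˣ) ∪ {u})) ≤ Nat.card M := by
    apply hM3
    refine ⟨?_, ?_⟩
    · rw [Subgroup.closure_le]
      rintro x (hx | rfl)
      · exact hM1 hx
      · exact hu
    · intro x hx z hz
      exact Subgroup.mem_centralizer_iff.1 (h3 hz) x hx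
  have h6 := Subgroup.eq_of_le_of_card_ge h4 h5
  rw [h6]
  exact Subgroup.subset_closure (Or.inr rfl)

section maxi

variable {M : Subgroup (R K V)ˣ} (hM1 : M ≤ Lf A) (hM2 : ∀ u ∈ M, ∀ v ∈ M, u * v = v * u)
  (hM3 : ∀ u ∈ Lf A, (∀ v ∈ M, u * v = v * u) → u ∈ M)

/-- the centralizer of `M` in `R` -/
def Ce (M : Subgroup (R K V)ˣ) : Subalgebra K (R K V) := Subalgebra.centralizer K {X | ∃ m ∈ M, (m : R K V) = X}

omit M in
theorem mem_Ce {M : Subgroup (R K V)ˣ} {X : R K V} : X ∈ Ce M ↔ ∀ m ∈ M, (m : R K V) * X = X * m := by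
  unfold Ce
  rw [Subalgebra.mem_centralizer_iff]
  constructor
  · intro h m hm
    exact h m ⟨m, hm, rfl⟩
  · rintro h _ ⟨m, hm, rfl⟩
    exact h m hm

include hM1 hM3 in
theorem coef_zero [Module.Finite K V] (h : Dat A r a) {X : R K V} (hX : X ∈ Ce M) {u : (R K V)ˣ} (hu : u ∈ Lf A)
    (huM : u ∉ M) : LinearMap.trace K V (X * ((u⁻¹ : (R K V)ˣ) : R K V)) = 0 := by
  have h1 : ∃ v ∈ M, u * v ≠ v * u := by
    by_contra hcon
    push Not at hcon
    exact huM (hM3 u hu hcon)
  obtain ⟨v, hv, huv⟩ := h1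
  obtain ⟨ε, hε⟩ := h.comm (hM1 hv) hu
  have hε1 : ε ≠ 1 := by
    rintro rfl
    apply huv
    apply Units.ext
    rw [one_smul] at hε
    simpa using hε.symm
  have h2 : ((u⁻¹ : (R K V)ˣ) : R K V) * v = ε • ((v : R K V) * ((u⁻¹ : (R K V)ˣ) : R K V)) := by
    have h3 := congrArg (fun Z => ((u⁻¹ : (R K V)ˣ) : R K V) * Z * ((u⁻¹ : (R K V)ˣ) : R K V)) hε
    simp only [mul_smul_comm, smul_mul_assoc, mul_assoc, Units.mul_inv, mul_one] at h3
    rw [h3]
    simp [← mul_assoc]
  have h3 : LinearMap.trace K V (X * ((u⁻¹ : (R K V)ˣ) : R K V)) =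
      ε * LinearMap.trace K V (X * ((u⁻¹ : (R K V)ˣ) : R K V)) := by
    have h4 : X * ((u⁻¹ : (R K V)ˣ) : R K V) =
        ε • ((v : R K V) * (X * ((u⁻¹ : (R K V)ˣ) : R K V) * ((v⁻¹ : (R K V)ˣ) : R K V))) := by
      calc X * ((u⁻¹ : (R K V)ˣ) : R K V) =
          X * (((u⁻¹ : (R K V)ˣ) : R K V) * v) * ((v⁻¹ : (R K V)ˣ) : R K V) := by
            simp [mul_assoc]
        _ = ε • (X * (v : R K V) * ((u⁻¹ : (R K V)ˣ) : R K V) * ((v⁻¹ : (R K V)ˣ) : R K V)) := by
            rw [h2, mul_smul_comm, smul_mul_assoc, ← mul_assoc X]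
        _ = _ := by
            rw [← mem_Ce.1 hX v hv]
            simp only [mul_assoc]
    conv_lhs => rw [h4]
    rw [map_smul, smul_eq_mul, LinearMap.trace_mul_comm]
    congr 2
    simp [mul_assoc]
  have h4 : (ε - 1) * LinearMap.trace K V (X * ((u⁻¹ : (R K V)ˣ) : R K V)) = 0 := by
    rw [sub_mul, ← h3]; ring
  rcases mul_eq_zero.1 h4 with h5 | h5
  · exact absurd (sub_eq_zero.1 h5) hε1
  · exact h5

include hM1 hM3 in
/-- elements commuting with `M` commute with the centralizer -/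
theorem Ce_comm [Finite K] [Module.Finite K V] (h : Dat A r a) {X : R K V} (hX : X ∈ Ce M) {Z : R K V}
    (hZ : ∀ m ∈ M, (m : R K V) * Z = Z * m) : X * Z = Z * X := by
  classical
  haveI : Finite (R K V) := finite_R
  haveI : Fintype A := Fintype.ofFinite A
  obtain ⟨y, hy⟩ := h.exists_rep
  have h1 := h.expand hy X
  have h2 : (finrank K V : K) • (X * Z) = (finrank K V : K) • (Z * X) := by
    rw [← smul_mul_assoc, ← mul_smul_comm, h1, Finset.sum_mul, Finset.mul_sum]
    apply Finset.sum_congr rfl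
    intro α _
    rw [smul_mul_assoc, mul_smul_comm]
    by_cases hα : y α ∈ M
    · rw [hZ _ hα]
    · rw [h.coef_zero hM1 hM3 hX (rep_mem hy α) hα, zero_smul, zero_smul]
  exact smul_right_injective _ h.n_ne_zero h2

include hM1 hM3 in
theorem Ce_red [Finite K] [Module.Finite K V] (h : Dat A r a) {X : R K V} (hX : X ∈ Ce M) (hnil : IsNilpotent X) :
    X = 0 := by
  classical
  haveI : Finite (R K V) := finite_R
  haveI : Fintype A := Fintype.ofFinite A
  obtain ⟨y, hy⟩ := h.exists_rep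
  have h1 := h.expand hy X
  have h2 : (finrank K V : K) • X = 0 := by
    rw [h1]
    apply Finset.sum_eq_zero
    intro α _
    by_cases hα : y α ∈ M
    · have hc : Commute X (((y α)⁻¹ : (R K V)ˣ) : R K V) := by
        have h3 : Commute (y α : R K V) X := mem_Ce.1 hX _ hα
        exact (Commute.units_inv_left h3).symm
      have h4 : IsNilpotent (X * (((y α)⁻¹ : (R K V)ˣ) : R K V)) := hc.isNilpotent_mul_right hnil
      rw [(LinearMap.isNilpotent_trace_of_isNilpotent h4).eq_zero, zero_smul]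
    · rw [h.coef_zero hM1 hM3 hX (rep_mem hy α) hα, zero_smul]
  rcases smul_eq_zero.1 h2 with h3 | h3
  · exact absurd h3 h.n_ne_zero
  · exact h3

include hM1 hM2 hM3 in
/-- a separating vector -/
theorem exists_sep [Finite K] [Module.Finite K V] (h : Dat A r a) : ∃ w : V, ∀ X ∈ Ce M, X w = 0 → X = 0 := by
  haveI : Finite (R K V) := finite_R
  letI : CommRing (Ce M) := { (inferInstance : Ring (Ce M)) with
    mul_comm := fun X Y => Subtype.ext (h.Ce_comm hM1 hM3 X.2 (mem_Ce.1 Y.2)) }
  haveI : IsReduced (Ce M) := ⟨fun X hX => Subtype.ext (h.Ce_red hM1 hM3 X.2 (by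
    obtain ⟨k, hk⟩ := hX
    exact ⟨k, by
      have := congrArg (fun Z : Ce M => (Z : R K V)) hk
      simpa using this⟩))⟩
  haveI : IsSemisimpleRing (Ce M) := IsArtinianRing.isSemisimpleRing_of_isReduced _
  let N : V → Ideal (Ce M) := fun w =>
    { carrier := {b | (b : R K V) w = 0}
      add_mem' := by
        intro b c hb hc
        change ((b : R K V) + (c : R K V)) w = 0
        rw [LinearMap.add_apply]
        rw [show (b : R K V) w = 0 from hb, show (c : R K V) w = 0 from hc, add_zero]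
      zero_mem' := by
        change (0 : R K V) w = 0
        simp
      smul_mem' := by
        intro b c hc
        change ((b : R K V) * (c : R K V)) w = 0
        rw [Module.End.mul_apply, show (c : R K V) w = 0 from hc, map_zero] }
  have hN : ∀ (w : V) (b : Ce M), b ∈ N w ↔ (b : R K V) w = 0 := fun w b => Iff.rfl
  obtain ⟨I, ⟨w, rfl⟩, hmin⟩ := IsArtinian.set_has_minimal (Set.range N) ⟨_, 0, rfl⟩
  refine ⟨w, fun X hX hw => ?_⟩
  obtain ⟨e, he, hIe⟩ := IsSemisimpleRing.ideal_eq_span_idempotent (N w)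
  have hew : (e : R K V) w = 0 := by
    rw [← hN, hIe]
    exact Ideal.mem_span_singleton_self e
  have he' : (e : R K V) * e = e := by
    have := congrArg (fun Z : Ce M => (Z : R K V)) he
    simpa using this
  by_cases he0 : e = 0
  · have h1 : (⟨X, hX⟩ : Ce M) ∈ N w := hw
    rw [hIe, he0, Ideal.mem_span_singleton, zero_dvd_iff] at h1
    exact congrArg (fun Z : Ce M => (Z : R K V)) h1
  · exfalso
    have h1 : ∃ v : V, (e : R K V) v ≠ 0 := by
      by_contra hcon
      push Not at hcon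
      apply he0
      apply Subtype.ext
      apply LinearMap.ext
      intro v
      rw [hcon v]
      rfl
    obtain ⟨v, hv⟩ := h1
    have hee : ∀ x : V, (e : R K V) ((e : R K V) x) = (e : R K V) x := by
      intro x
      rw [← Module.End.mul_apply, he']
    apply hmin (N (w + (e : R K V) v)) ⟨_, rfl⟩
    refine lt_of_le_of_ne ?_ ?_
    · intro b hb
      rw [hN] at hb ⊢
      rw [map_add] at hb
      have hbe : ∀ x : V, (e : R K V) ((b : R K V) x) = (b : R K V) ((e : R K V) x) := by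
        intro x
        rw [← Module.End.mul_apply, ← Module.End.mul_apply, h.Ce_comm hM1 hM3 e.2 (mem_Ce.1 b.2)]
      have h2 := congrArg (fun x => (e : R K V) x) hb
      simp only [map_add, map_zero] at h2
      rw [hbe, hbe, hew, map_zero, zero_add, hee] at h2
      rw [h2, add_zero] at hb
      exact hb
    · intro h3
      have h4 : e ∈ N w := hew
      rw [← h3, hN, map_add, hew, hee, zero_add] at h4
      exact hv h4

/-- functionals on the centralizer come from functionals on `V` -/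
theorem exists_phi {w : V} (hw : ∀ X ∈ Ce M, X w = 0 → X = 0) (ψ : R K V →ₗ[K] K) :
    ∃ φ : Module.Dual K V, ∀ X ∈ Ce M, φ (X w) = ψ X := by
  let ev : (Ce M) →ₗ[K] V := (LinearMap.applyₗ w).comp (Subalgebra.toSubmodule (Ce M)).subtype
  have hev : ∀ X : Ce M, ev X = (X : R K V) w := fun X => rfl
  have hker : LinearMap.ker ev = ⊥ := by
    rw [LinearMap.ker_eq_bot']
    intro X hX
    exact Subtype.ext (hw X X.2 hX)
  obtain ⟨g, hg⟩ := LinearMap.exists_leftInverse_of_injective ev hker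
  refine ⟨(ψ.comp (Subalgebra.toSubmodule (Ce M)).subtype).comp g, fun X hX => ?_⟩
  have h1 : g (ev ⟨X, hX⟩) = ⟨X, hX⟩ := by
    have := congrArg (fun k : (Ce M) →ₗ[K] (Ce M) => k ⟨X, hX⟩) hg
    exact this
  rw [hev] at h1
  rw [LinearMap.comp_apply, LinearMap.comp_apply]
  rw [h1]
  rfl

end maxi

end Dat

end Cfsg.Agent.H716.FC
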