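import Cfsg.Agent.H716.FC.LagB

/-!
# S5764, L-C6x: the order of the maximal commutative group, the rank one map `z` (helper716)
-/

set_option autoImplicit false

namespace Cfsg.Agent.H716.FC
open Cfsg.Agent.H198.FC Module

universe u v

variable {K : Type u} [Field K] {V : Type v} [AddCommGroup V] [Module K V]

namespace Dat

variable {A : Subgroup (Equiv.Perm (R K V))} {r a : ℕ}

theorem card_L [Finite K] [Module.Finite K V] (h : Dat A r a) {M : Subgroup (R K V)ˣ} (hM1 : M ≤ Lf A)
    (hM3 : ∀ u ∈ Lf A, (∀ v ∈ M, u * v = v * u) → u ∈ M) :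
    finrank K V ≤ Nat.card (M.map (cj K V)) := by
  classical
  haveI : Finite (R K V) := finite_R
  haveI : Nontrivial V := h.nontriv
  obtain ⟨y, hy⟩ := h.exists_rep
  have hyA : ∀ α : A, y α ∈ Lf A := fun α => by rw [mem_Lf, hy]; exact α.2
  set L := M.map (cj K V) with hL
  have hsc : ∀ (α : A) (l : L), ∃ ε : K, (l : Equiv.Perm (R K V)) (y α) = ε • (y α : R K V) := by
    rintro α ⟨_, ⟨m, hm, rfl⟩⟩
    obtain ⟨ε, hε⟩ := h.comm (hM1 hm) (hyA α)
    refine ⟨ε, ?_⟩
    change (m : R K V) * (y α) * ((m⁻¹ : (R K V)ˣ) : R K V) = _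
    rw [hε]
    simp [mul_assoc]
  choose e he using hsc
  have hpmul : ∀ (l : L) (s : K) (X : R K V), (l : Equiv.Perm (R K V)) (s • X) = s • (l : Equiv.Perm (R K V)) X := by
    rintro ⟨_, ⟨m, hm, rfl⟩⟩ s X
    change (m : R K V) * (s • X) * ((m⁻¹ : (R K V)ˣ) : R K V) = s • ((m : R K V) * X * ((m⁻¹ : (R K V)ˣ) : R K V))
    rw [mul_smul_comm, smul_mul_assoc]
  let χ : A → (L →* K) := fun α =>
    { toFun := e α
      map_one' := by
        apply smul_inj_unit (x := y α)
        rw [← he, one_smul]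
        rfl
      map_mul' := by
        intro l l'
        apply smul_inj_unit (x := y α)
        rw [← he]
        change (l : Equiv.Perm (R K V)) ((l' : Equiv.Perm (R K V)) (y α)) = _
        rw [he, hpmul, he, smul_smul, mul_comm] }
  have hχ : ∀ α β : A, χ α = χ β → (α : Equiv.Perm (R K V)) * (β : Equiv.Perm (R K V))⁻¹ ∈ L := by
    intro α β hαβ
    have h1 : y α * (y β)⁻¹ ∈ M := by
      apply hM3
      · exact mul_mem (hyA α) (inv_mem (hyA β))
      · intro m hm
        have h2 : e α ⟨cj K V m, ⟨m, hm, rfl⟩⟩ = e β ⟨cj K V m, ⟨m, hm, rfl⟩⟩ :=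
          congrArg (fun c : L →* K => c ⟨cj K V m, ⟨m, hm, rfl⟩⟩) hαβ
        have h3 := he α ⟨cj K V m, ⟨m, hm, rfl⟩⟩
        have h4 := he β ⟨cj K V m, ⟨m, hm, rfl⟩⟩
        rw [← h2] at h4
        set s := e α ⟨cj K V m, ⟨m, hm, rfl⟩⟩ with hs
        change (m : R K V) * (y α) * ((m⁻¹ : (R K V)ˣ) : R K V) = s • (y α : R K V) at h3
        change (m : R K V) * (y β) * ((m⁻¹ : (R K V)ˣ) : R K V) = s • (y β : R K V) at h4
        have hs0 : s ≠ 0 := by
          intro h0
          rw [h0, zero_smul] at h3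
          exact (m * y α * m⁻¹).ne_zero (by simpa using h3)
        have h5 : (m : R K V) * (y α) = s • ((y α : R K V) * m) := by
          have := congrArg (fun Z => Z * (m : R K V)) h3
          simpa [mul_assoc] using this
        have h6 : (m : R K V) * (y β) = s • ((y β : R K V) * m) := by
          have := congrArg (fun Z => Z * (m : R K V)) h4
          simpa [mul_assoc] using this
        have h7 : (((y β)⁻¹ : (R K V)ˣ) : R K V) * m = s • ((m : R K V) * (((y β)⁻¹ : (R K V)ˣ) : R K V)) := by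
          have h8 := congrArg (fun Z => (((y β)⁻¹ : (R K V)ˣ) : R K V) * Z * (((y β)⁻¹ : (R K V)ˣ) : R K V)) h6
          simp only [mul_smul_comm, smul_mul_assoc, mul_assoc, Units.mul_inv, mul_one] at h8
          rw [h8]
          simp [← mul_assoc]
        apply Units.ext
        change (y α : R K V) * (((y β)⁻¹ : (R K V)ˣ) : R K V) * m = m * ((y α : R K V) * (((y β)⁻¹ : (R K V)ˣ) : R K V))
        rw [mul_assoc, h7, mul_smul_comm, ← mul_assoc, ← mul_assoc, h5, smul_mul_assoc]
    have h2 : cj K V (y α * (y β)⁻¹) ∈ L := ⟨_, h1, rfl⟩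
    rw [map_mul, map_inv, hy, hy] at h2
    exact h2
  haveI : Fintype L := Fintype.ofFinite L
  haveI : Finite (L →* K) := DFunLike.finite _
  haveI : Fintype (L →* K) := Fintype.ofFinite _
  have hdim : Nat.card (L →* K) ≤ Nat.card L := by
    have h1 := (linearIndependent_monoidHom L K).fintype_card_le_finrank
    rw [Module.finrank_fintype_fun_eq_card] at h1
    rwa [Nat.card_eq_fintype_card, Nat.card_eq_fintype_card]
  -- section
  let g : (L →* K) → A := fun c => if hc : ∃ β : A, χ β = c then hc.choose else 1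
  have hg : ∀ α : A, χ (g (χ α)) = χ α := by
    intro α
    have hc : ∃ β : A, χ β = χ α := ⟨α, rfl⟩
    have h1 : g (χ α) = hc.choose := dif_pos hc
    rw [h1]
    exact hc.choose_spec
  let F : A → (L →* K) × L := fun α => (χ α, ⟨_, hχ α (g (χ α)) (hg α).symm⟩)
  have hF : Function.Injective F := by
    intro α β hαβ
    have h1 : χ α = χ β := congrArg Prod.fst hαβ
    have h2 : (α : Equiv.Perm (R K V)) * (g (χ α) : Equiv.Perm (R K V))⁻¹ =
        (β : Equiv.Perm (R K V)) * (g (χ β) : Equiv.Perm (R K V))⁻¹ :=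
      congrArg (fun p : (L →* K) × L => (p.2 : Equiv.Perm (R K V))) hαβ
    rw [h1] at h2
    exact Subtype.ext (mul_right_cancel h2)
  have h1 : Nat.card A ≤ Nat.card L * Nat.card L := by
    refine (Nat.card_le_card_of_injective F hF).trans ?_
    rw [Nat.card_prod]
    exact Nat.mul_le_mul_right _ hdim
  rw [h.hcard, two_mul, pow_add] at h1
  rw [h.hn]
  exact Nat.mul_self_le_mul_self_iff.1 h1

/-- two elements of `L` -/
theorem exists_pair {L : Type*} [Group L] [Finite L] (hL : 4 ≤ Nat.card L) :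
    ∃ α β : L, α ≠ 1 ∧ β ≠ 1 ∧ β ≠ α⁻¹ ∧ β ≠ α⁻¹ * α⁻¹ := by
  classical
  haveI : Fintype L := Fintype.ofFinite L
  rw [Nat.card_eq_fintype_card] at hL
  have h1 : ∃ α : L, α ≠ 1 := by
    haveI : Nontrivial L := Fintype.one_lt_card_iff_nontrivial.1 (by omega)
    exact exists_ne 1
  obtain ⟨α, hα⟩ := h1
  have h2 : ∃ β : L, β ∉ ({1, α⁻¹, α⁻¹ * α⁻¹} : Finset L) := by
    by_contra hcon
    push Not at hcon
    have h3 : (Finset.univ : Finset L) ⊆ {1, α⁻¹, α⁻¹ * α⁻¹} := fun x _ => hcon x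
    have h4 := Finset.card_le_card h3
    rw [Finset.card_univ] at h4
    have h5 : ({1, α⁻¹, α⁻¹ * α⁻¹} : Finset L).card ≤ 3 := Finset.card_le_three
    omega
  obtain ⟨β, hβ⟩ := h2
  simp only [Finset.mem_insert, Finset.mem_singleton, not_or] at hβ
  exact ⟨α, β, hα, hβ.1, hβ.2.1, hβ.2.2⟩

end Dat

end Cfsg.Agent.H716.FC
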