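import Cfsg.Agent.H716.FC.LagC

/-!
# S5764, extraspecial type normalizers, `r = 2` (helper716): the support of an element of the normalizer
-/

set_option autoImplicit false

namespace Cfsg.Agent.H716.FC
open Cfsg.Agent.H198.FC Module

universe u v

variable {K : Type u} [Field K] {V : Type v} [AddCommGroup V] [Module K V]

/-- the trace of an element anticommuting with a unit -/
theorem trace_anti (h2 : (2 : K) ≠ 0) {v : (R K V)ˣ} {X : R K V} (h : (v : R K V) * X = -(X * v)) :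
    LinearMap.trace K V X = 0 := by
  have h1 : LinearMap.trace K V ((v : R K V) * X * ((v⁻¹ : (R K V)ˣ) : R K V)) = LinearMap.trace K V X := by
    rw [LinearMap.trace_mul_comm, ← mul_assoc, Units.inv_mul, one_mul]
  rw [h, neg_mul, mul_assoc, Units.mul_inv, mul_one, map_neg] at h1
  have h3 : (2 : K) * LinearMap.trace K V X = 0 := by linear_combination -h1
  rcases mul_eq_zero.1 h3 with h4 | h4
  · exact absurd h4 h2
  · exact h4

namespace Dat

variable {A : Subgroup (Equiv.Perm (R K V))} {r a : ℕ}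

/-- the twirl -/
theorem twirl [Module.Finite K V] [Fintype A] (h : Dat A r a) {y : A → (R K V)ˣ} (hy : ∀ α : A, cj K V (y α) = α)
    (Y : R K V) : ∑ β : A, (y β : R K V) * Y * (((y β)⁻¹ : (R K V)ˣ) : R K V) =
      ((finrank K V : K) * LinearMap.trace K V Y) • (1 : R K V) := by
  haveI := h.nontriv
  set X := ∑ β : A, (y β : R K V) * Y * (((y β)⁻¹ : (R K V)ˣ) : R K V) with hX
  have h1 : ∀ u ∈ Lf A, X * u = u * X := by
    intro u hu
    have h2 : (u : R K V) * X * ((u⁻¹ : (R K V)ˣ) : R K V) = X := by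
      rw [hX, Finset.mul_sum, Finset.sum_mul]
      have h3 : ∀ β : A, (u : R K V) * ((y β : R K V) * Y * (((y β)⁻¹ : (R K V)ˣ) : R K V)) *
          ((u⁻¹ : (R K V)ˣ) : R K V) =
          (y (⟨cj K V u, hu⟩ * β) : R K V) * Y * (((y (⟨cj K V u, hu⟩ * β))⁻¹ : (R K V)ˣ) : R K V) := by
        intro β
        have h4 : cj K V (u * y β) = cj K V (y (⟨cj K V u, hu⟩ * β)) := by
          rw [map_mul, hy, hy]
          rfl
        have h5 := congrArg (fun f : Equiv.Perm (R K V) => f Y) h4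
        simp only [cj_apply] at h5
        rw [← h5, mul_inv_rev, Units.val_mul, Units.val_mul]
        simp only [mul_assoc]
      rw [Finset.sum_congr rfl fun β _ => h3 β]
      exact Fintype.sum_equiv (Equiv.mulLeft (⟨cj K V u, hu⟩ : A)) _ _ fun β => rfl
    have h3 := congrArg (fun Z => Z * (u : R K V)) h2
    simpa [mul_assoc] using h3.symm
  obtain ⟨s, hs⟩ := h.sc_of_comm' h1
  rw [hs]
  congr 1
  have h2 : LinearMap.trace K V X = (Fintype.card A : K) * LinearMap.trace K V Y := by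
    rw [hX, map_sum]
    have h3 : ∀ β : A, LinearMap.trace K V ((y β : R K V) * Y * (((y β)⁻¹ : (R K V)ˣ) : R K V)) =
        LinearMap.trace K V Y := by
      intro β
      rw [LinearMap.trace_mul_comm, ← mul_assoc, Units.inv_mul, one_mul]
    rw [Finset.sum_congr rfl fun β _ => h3 β, Finset.sum_const, Finset.card_univ, nsmul_eq_mul]
  rw [hs, map_smul, smul_eq_mul] at h2
  have h3 : LinearMap.trace K V (1 : R K V) = (finrank K V : K) := by simp
  rw [h3] at h2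
  have h4 : (Fintype.card A : K) = (finrank K V : K) * (finrank K V : K) := by
    rw [← Nat.card_eq_fintype_card, h.hcard, h.hn, ← Nat.cast_mul]
    congr 1
    ring
  rw [h4] at h2
  have h5 : (finrank K V : K) * s = (finrank K V : K) * ((finrank K V : K) * LinearMap.trace K V Y) := by
    rw [mul_comm, h2]; ring
  exact mul_left_cancel₀ h.n_ne_zero h5

/-- the functional `u ↦ tr(g u⁻¹)` -/
noncomputable def tt (g u : (R K V)ˣ) : K := LinearMap.trace K V ((g : R K V) * ((u⁻¹ : (R K V)ˣ) : R K V))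

theorem tt_smul {g u v : (R K V)ˣ} {s : K} (hs : (u : R K V) = s • (v : R K V)) :
    s * tt g u = tt g v := by
  unfold tt
  rw [← smul_eq_mul, ← map_smul]
  congr 1
  rw [← mul_smul_comm]
  congr 1
  have h1 : (u : R K V) * ((v⁻¹ : (R K V)ˣ) : R K V) = s • (1 : R K V) := by
    rw [hs, smul_mul_assoc, Units.mul_inv]
  have h2 := congrArg (fun Z => ((u⁻¹ : (R K V)ˣ) : R K V) * Z) h1
  simp only [← mul_assoc, Units.inv_mul, one_mul, mul_smul_comm, mul_one] at h2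
  exact h2.symm

/-- only the class matters -/
theorem tt_ne {g u v : (R K V)ˣ} (hc : cj K V u = cj K V v) (h : tt g u ≠ 0) : tt g v ≠ 0 := by
  obtain ⟨s, hs⟩ := cj_eq_of hc
  intro h0
  rw [← tt_smul hs] at h0
  rcases mul_eq_zero.1 h0 with h1 | h1
  · apply h
    have h2 : (u : R K V) = 0 := by rw [hs, h1, zero_smul]
    unfold tt
    have h3 : ((u⁻¹ : (R K V)ˣ) : R K V) = 0 := by
      calc ((u⁻¹ : (R K V)ˣ) : R K V) = ((u⁻¹ : (R K V)ˣ) : R K V) * u * ((u⁻¹ : (R K V)ˣ) : R K V) := by simp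
        _ = 0 := by rw [h2]; simp
    rw [h3, mul_zero, map_zero]
  · exact h h1

theorem tt_conj (g u b : (R K V)ˣ) : tt g (g * b * g⁻¹ * u * b⁻¹) = tt g u := by
  unfold tt
  have e1 : g * (g * b * g⁻¹ * u * b⁻¹)⁻¹ = (g * b * u⁻¹) * (g * b⁻¹ * g⁻¹) := by group
  have e2 : (g * b⁻¹ * g⁻¹) * (g * b * u⁻¹) = g * u⁻¹ := by group
  rw [← Units.val_mul, e1, Units.val_mul, LinearMap.trace_mul_comm, ← Units.val_mul, e2, Units.val_mul]

/-- two elements of the support -/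
theorem supp_coset [Finite K] [Module.Finite K V] (h : Dat A r a) {g : (R K V)ˣ}
    (hg : ∀ α ∈ A, cj K V g * α * (cj K V g)⁻¹ ∈ A) {u v : (R K V)ˣ} (hu : u ∈ Lf A) (hv : v ∈ Lf A)
    (hut : tt g u ≠ 0) (hvt : tt g v ≠ 0) : ∃ b ∈ Lf A, cj K V v = cj K V (g * b * g⁻¹ * u * b⁻¹) := by
  classical
  haveI : Finite (R K V) := finite_R
  haveI := h.nontriv
  haveI : Fintype A := Fintype.ofFinite A
  obtain ⟨y, hy⟩ := h.exists_rep
  have hyA : ∀ α : A, y α ∈ Lf A := fun α => rep_mem hy α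
  have hgA : ∀ b ∈ Lf A, g * b * g⁻¹ ∈ Lf A := by
    intro b hb
    rw [mem_Lf, map_mul, map_mul, map_inv]
    exact hg _ hb
  -- some `w` with `tr(w g⁻¹) ≠ 0`
  have h1 : ∃ w ∈ Lf A, LinearMap.trace K V ((w : R K V) * ((g⁻¹ : (R K V)ˣ) : R K V)) ≠ 0 := by
    by_contra hcon
    push Not at hcon
    have h2 := h.expand hy ((g⁻¹ : (R K V)ˣ) : R K V)
    have h3 : (finrank K V : K) • ((g⁻¹ : (R K V)ˣ) : R K V) = 0 := by
      rw [h2]
      apply Finset.sum_eq_zero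
      intro α _
      have h4 := hcon (y α)⁻¹ (inv_mem (hyA α))
      rw [LinearMap.trace_mul_comm] at h4
      rw [h4, zero_smul]
    rcases smul_eq_zero.1 h3 with h4 | h4
    · exact h.n_ne_zero h4
    · exact (g⁻¹ : (R K V)ˣ).ne_zero h4
  obtain ⟨w, hw, hwt⟩ := h1
  have key : ∀ z ∈ Lf A, tt g z ≠ 0 → ∃ b ∈ Lf A, cj K V z = cj K V (g * b * g⁻¹ * w * b⁻¹) := by
    intro z hz hzt
    have h2 := h.twirl hy (((g⁻¹ : (R K V)ˣ) : R K V) * w)
    have h3 := congrArg (fun X : R K V => LinearMap.trace K V ((g : R K V) * X * ((z⁻¹ : (R K V)ˣ) : R K V))) h2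
    rw [mul_smul_comm, mul_one, smul_mul_assoc, map_smul, smul_eq_mul, Finset.mul_sum, Finset.sum_mul, map_sum] at h3
    have h4 : (finrank K V : K) * LinearMap.trace K V (((g⁻¹ : (R K V)ˣ) : R K V) * w) *
        LinearMap.trace K V ((g : R K V) * ((z⁻¹ : (R K V)ˣ) : R K V)) ≠ 0 := by
      refine mul_ne_zero (mul_ne_zero h.n_ne_zero ?_) hzt
      rw [LinearMap.trace_mul_comm]
      exact hwt
    rw [← h3] at h4
    obtain ⟨β, -, hβ⟩ := Finset.exists_ne_zero_of_sum_ne_zero h4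
    refine ⟨y β, hyA β, ?_⟩
    -- the element is a scalar
    have h5 : (g : R K V) * ((y β : R K V) * (((g⁻¹ : (R K V)ˣ) : R K V) * w) * (((y β)⁻¹ : (R K V)ˣ) : R K V)) *
        ((z⁻¹ : (R K V)ˣ) : R K V) = ((g * y β * g⁻¹ * w * (y β)⁻¹ * z⁻¹ : (R K V)ˣ) : R K V) := by
      simp only [Units.val_mul, mul_assoc]
    rw [h5] at hβ
    by_contra hne
    apply hβ
    apply h.trace_zero
    · exact mul_mem (mul_mem (mul_mem (hgA _ (hyA β)) hw) (inv_mem (hyA β))) (inv_mem hz)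
    · rintro ⟨s, hs⟩
      have h6 := cj_eq_one' hs
      rw [map_mul, map_inv, mul_inv_eq_one] at h6
      exact hne h6.symm
  obtain ⟨b, hb, hbu⟩ := key u hu hut
  obtain ⟨c, hc, hcv⟩ := key v hv hvt
  refine ⟨c * b⁻¹, mul_mem hc (inv_mem hb), ?_⟩
  have e2 : ∀ p q : (R K V)ˣ, cj K V (g * p * g⁻¹ * q * p⁻¹) = cj K V (g * p * g⁻¹) * cj K V q * (cj K V p)⁻¹ := by
    intro p q
    rw [map_mul (cj K V) _ p⁻¹, map_mul (cj K V) _ q, map_inv (cj K V) p]
  have e3 : cj K V (g * (c * b⁻¹) * g⁻¹) = cj K V (g * c * g⁻¹) * (cj K V (g * b * g⁻¹))⁻¹ := by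
    rw [← map_inv, ← map_mul]
    congr 1
    group
  rw [e2, e3, hcv, hbu, e2, e2, map_mul (cj K V) c, map_inv (cj K V) b]
  group

/-- **(P)** -/
theorem supp_three [Finite K] [Module.Finite K V] (h : Dat A 2 a) {g : (R K V)ˣ}
    (hg : ∀ α ∈ A, cj K V g * α * (cj K V g)⁻¹ ∈ A) {u v w z : (R K V)ˣ} (hu : u ∈ Lf A) (hv : v ∈ Lf A)
    (hw : w ∈ Lf A) (hut : tt g u ≠ 0) (hvt : tt g v ≠ 0) (hwt : tt g w ≠ 0)
    (hz : cj K V z = cj K V u * cj K V v * cj K V w) : tt g z ≠ 0 := by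
  obtain ⟨b, hb, hbv⟩ := h.supp_coset hg hu hv hut hvt
  have hgA : ∀ b ∈ Lf A, g * b * g⁻¹ ∈ Lf A := by
    intro b hb
    rw [mem_Lf, map_mul, map_mul, map_inv]
    exact hg _ hb
  have h1 : tt g (g * b * g⁻¹ * w * b⁻¹) ≠ 0 := by rw [tt_conj]; exact hwt
  refine tt_ne ?_ h1
  rw [hz, hbv]
  have e2 : ∀ p : (R K V)ˣ, cj K V (g * b * g⁻¹ * p * b⁻¹) = cj K V (g * b * g⁻¹) * cj K V p * cj K V b⁻¹ := by
    intro p
    rw [map_mul (cj K V) _ b⁻¹, map_mul (cj K V) _ p]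
  rw [e2, e2]
  have hab : ∀ p ∈ Lf A, ∀ q ∈ Lf A, cj K V p * cj K V q = cj K V q * cj K V p := fun p hp q hq => h.hcomm _ hp _ hq
  have m1 := hgA _ hb
  have hu2 : cj K V u * cj K V u = 1 := by rw [← sq]; exact h.hpow _ hu
  have e5 : ∀ p q s t : Equiv.Perm (R K V), q * q = 1 → p * q = q * p → s * t = t * s →
      p * t * s = q * (p * q * s) * t := by
    intro p q s t h1 h2 h3
    calc p * t * s = p * (s * t) := by rw [mul_assoc, h3]
      _ = p * (q * q) * s * t := by rw [h1, mul_one, mul_assoc]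
      _ = (p * q) * q * s * t := by rw [← mul_assoc p q q]
      _ = (q * p) * q * s * t := by rw [h2]
      _ = q * (p * q * s) * t := by simp only [mul_assoc]
  exact e5 _ _ _ _ hu2 (hab _ m1 u hu) (hab _ (inv_mem hb) w hw)

theorem sq_mul [Module.Finite K V] (h : Dat A 2 a) {x y : (R K V)ˣ} (hx : x ∈ Lf A) (hy : y ∈ Lf A) {s t : K}
    (hs : (x : R K V) * x = s • (1 : R K V)) (ht : (y : R K V) * y = t • (1 : R K V)) :
    ∃ ε : K, ε ^ 2 = 1 ∧ ((x * y : (R K V)ˣ) : R K V) * ((x * y : (R K V)ˣ) : R K V) = (ε * (s * t)) • (1 : R K V) := by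
  obtain ⟨ε, hε⟩ := h.comm hy hx
  refine ⟨ε, h.eps_pow hy hε, ?_⟩
  rw [Units.val_mul]
  calc (x : R K V) * y * ((x : R K V) * y) = (x : R K V) * ((y : R K V) * x) * y := by simp only [mul_assoc]
    _ = ε • ((x : R K V) * x * ((y : R K V) * y)) := by
        rw [hε, mul_smul_comm, smul_mul_assoc]
        simp only [mul_assoc]
    _ = _ := by
        rw [hs, ht, smul_mul_assoc, one_mul, smul_smul, smul_smul, mul_assoc]

/-- **(FL)** -/
theorem supp_flat [Finite K] [Module.Finite K V] (h : Dat A 2 a) {g : (R K V)ˣ}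
    (hg : ∀ α ∈ A, cj K V g * α * (cj K V g)⁻¹ ∈ A) {u w : (R K V)ˣ} (hu : u ∈ Lf A) (hw : w ∈ Lf A)
    (hut : tt g u ≠ 0) (hwt : tt g w ≠ 0) {s t : K}
    (hs : (u : R K V) * u = s • (1 : R K V)) (ht : (w : R K V) * w = t • (1 : R K V)) :
    s ^ 2 * (tt g u) ^ 4 = t ^ 2 * (tt g w) ^ 4 := by
  haveI := h.nontriv
  obtain ⟨b, hb, hbv⟩ := h.supp_coset hg hu hw hut hwt
  obtain ⟨c, hc⟩ := cj_eq_of hbv
  have h1 : c * tt g w = tt g u := by
    have := tt_smul (g := g) hc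
    rw [this, tt_conj]
  obtain ⟨β, hβ⟩ := h.pow_sc hb
  rw [sq] at hβ
  have hβ0 : β ≠ 0 := by
    rintro rfl
    rw [zero_smul] at hβ
    exact (b * b).ne_zero (by simpa using hβ)
  have hq : ((g * b * g⁻¹ : (R K V)ˣ) : R K V) * ((g * b * g⁻¹ : (R K V)ˣ) : R K V) = β • (1 : R K V) := by
    have e1 : (g * b * g⁻¹) * (g * b * g⁻¹) = g * (b * b) * g⁻¹ := by group
    rw [← Units.val_mul, e1, Units.val_mul, Units.val_mul, Units.val_mul, hβ, mul_smul_comm, smul_mul_assoc, mul_one,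
      Units.mul_inv]
  have hbi : ((b⁻¹ : (R K V)ˣ) : R K V) * ((b⁻¹ : (R K V)ˣ) : R K V) = β⁻¹ • (1 : R K V) := by
    have e1 : ((b⁻¹ : (R K V)ˣ) : R K V) * ((b⁻¹ : (R K V)ˣ) : R K V) * ((b : R K V) * b) = 1 := by
      rw [← Units.val_mul, ← Units.val_mul, ← Units.val_mul]
      have : b⁻¹ * b⁻¹ * (b * b) = 1 := by group
      rw [this, Units.val_one]
    rw [hβ, mul_smul_comm, mul_one] at e1
    rw [← e1, smul_smul, inv_mul_cancel₀ hβ0, one_smul]
  have hgb : g * b * g⁻¹ ∈ Lf A := by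
    rw [mem_Lf, map_mul, map_mul, map_inv]
    exact hg _ hb
  obtain ⟨ε1, hε1, e1⟩ := h.sq_mul hgb hu hq hs
  obtain ⟨ε2, hε2, e2⟩ := h.sq_mul (mul_mem hgb hu) (inv_mem hb) e1 hbi
  have h2 : t = c * c * (ε2 * (ε1 * (β * s) * β⁻¹)) := by
    apply smul_inj_unit (x := (1 : (R K V)ˣ))
    rw [Units.val_one, ← ht, hc, smul_mul_smul_comm, e2, smul_smul]
  have h3 : ε2 * (ε1 * (β * s) * β⁻¹) = ε2 * ε1 * s := by
    field_simp
  rw [h3] at h2
  rw [h2, ← h1]
  have e3 : ε1 ^ 2 = 1 := hε1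
  have e4 : ε2 ^ 2 = 1 := hε2
  calc s ^ 2 * (c * tt g w) ^ 4 = (ε2 ^ 2) * (ε1 ^ 2) * (s ^ 2 * (c * tt g w) ^ 4) := by rw [e3, e4]; ring
    _ = _ := by ring

end Dat

end Cfsg.Agent.H716.FC
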