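import Cfsg.Agent.H716.FC.TwoX
import Cfsg.Agent.H716.FC.ExZ

/-!
# S5764, extraspecial type normalizers, `r = 2`, `n ≥ 4` (helper716): the elements `a`, `b`, `c`
-/

set_option autoImplicit false

namespace Cfsg.Agent.H716.FC
open Cfsg.Agent.H198.FC Module

universe u v

variable {K : Type u} [Field K] {V : Type v} [AddCommGroup V] [Module K V]

/-- scaling -/
theorem exists_scale {κ : Kˣ} (hκ : ∀ x : Kˣ, x ∈ Subgroup.zpowers κ) {s : K} (hs : s ≠ 0) :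
    ∃ c : K, c ≠ 0 ∧ (c * c * s = 1 ∨ c * c * s = κ) := by
  obtain ⟨k, hk⟩ := hκ (Units.mk0 s hs)
  have h1 : s = ((κ : K)) ^ k := by
    have := congrArg (fun y : Kˣ => (y : K)) hk
    simpa using this.symm
  have hκ0 : (κ : K) ≠ 0 := κ.ne_zero
  rcases Int.even_or_odd' k with ⟨j, hj | hj⟩
  · refine ⟨(κ : K) ^ (-j), zpow_ne_zero _ hκ0, Or.inl ?_⟩
    rw [h1, ← zpow_add₀ hκ0, ← zpow_add₀ hκ0, hj]
    have : -j + -j + 2 * j = 0 := by ring
    rw [this, zpow_zero]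
  · refine ⟨(κ : K) ^ (-j), zpow_ne_zero _ hκ0, Or.inr ?_⟩
    rw [h1, ← zpow_add₀ hκ0, ← zpow_add₀ hκ0, hj]
    have : -j + -j + (2 * j + 1) = 1 := by ring
    rw [this, zpow_one]

/-- scaled units -/
theorem exists_smul_unit (u : (R K V)ˣ) {c : K} (hc : c ≠ 0) : ∃ v : (R K V)ˣ, (v : R K V) = c • (u : R K V) := by
  refine ⟨⟨c • (u : R K V), c⁻¹ • ((u⁻¹ : (R K V)ˣ) : R K V), ?_, ?_⟩, rfl⟩
  · rw [smul_mul_smul_comm, mul_inv_cancel₀ hc, Units.mul_inv, one_smul]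
  · rw [smul_mul_smul_comm, inv_mul_cancel₀ hc, Units.inv_mul, one_smul]

namespace Dat

variable {A : Subgroup (Equiv.Perm (R K V))} {m : ℕ}

theorem smul_mem_Lf {u v : (R K V)ˣ} {c : K} (hv : (v : R K V) = c • (u : R K V)) (hu : u ∈ Lf A) : v ∈ Lf A := by
  rw [mem_Lf, cj_eq_of' hv]
  exact hu

/-- a nonscalar involution among the lifts -/
theorem exists_a [Finite K] [Module.Finite K V] (h : Dat A 2 m) (hm : 2 ≤ m) :
    ∃ a ∈ Lf A, (¬ ∃ s : K, (a : R K V) = s • (1 : R K V)) ∧ (a : R K V) * a = 1 := by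
  haveI : Finite (R K V) := finite_R
  haveI := h.nontriv
  obtain ⟨κ, hκ⟩ := IsCyclic.exists_generator (α := Kˣ)
  have hκ0 : (κ : K) ≠ 0 := κ.ne_zero
  obtain ⟨M, hM1, hM2, hM3⟩ := exists_max (A := A)
  have h4 : 4 ≤ finrank K V := by
    rw [h.hn]
    calc 4 = 2 ^ 2 := by norm_num
      _ ≤ 2 ^ m := Nat.pow_le_pow_right (by norm_num) hm
  obtain ⟨⟨_, ⟨u, hu, rfl⟩⟩, ⟨_, ⟨v, hv, rfl⟩⟩, h1, h2, h3, -⟩ :=
    exists_pair (L := M.map (cj K V)) (h4.trans (h.card_L hM1 hM3))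
  have hu1 : cj K V u ≠ 1 := fun hh => h1 (Subtype.ext hh)
  have hv1 : cj K V v ≠ 1 := fun hh => h2 (Subtype.ext hh)
  have huv1 : cj K V u * cj K V v ≠ 1 := fun hh => h3 (Subtype.ext (eq_inv_of_mul_eq_one_right hh))
  have hns : ∀ w : (R K V)ˣ, cj K V w ≠ 1 → ¬ ∃ s : K, (w : R K V) = s • (1 : R K V) := by
    rintro w hw ⟨s, hs⟩
    exact hw (cj_eq_one' hs)
  obtain ⟨s, hs0, hs⟩ := h.sq_sc (hM1 hu)
  obtain ⟨t, ht0, ht⟩ := h.sq_sc (hM1 hv)
  obtain ⟨c, hc0, hc⟩ := exists_scale hκ hs0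
  obtain ⟨d, hd0, hd⟩ := exists_scale hκ ht0
  have key : ∀ (w : (R K V)ˣ) (p e : K), w ∈ Lf A → cj K V w ≠ 1 → e ≠ 0 → (w : R K V) * w = p • (1 : R K V) →
      e * e * p = 1 → ∃ a ∈ Lf A, (¬ ∃ s : K, (a : R K V) = s • (1 : R K V)) ∧ (a : R K V) * a = 1 := by
    intro w p e hw hw1 he0 hww hep
    obtain ⟨a, ha⟩ := exists_smul_unit w he0
    refine ⟨a, smul_mem_Lf ha hw, hns a (by rw [cj_eq_of' ha]; exact hw1), ?_⟩
    rw [ha, smul_mul_smul_comm, hww, smul_smul, hep, one_smul]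
  rcases hc with hc | hc
  · exact key u s c (hM1 hu) hu1 hc0 hs hc
  rcases hd with hd | hd
  · exact key v t d (hM1 hv) hv1 hd0 ht hd
  have hcomm : (u : R K V) * v = v * u := congrArg (fun z : (R K V)ˣ => (z : R K V)) (hM2 u hu v hv)
  refine key (u * v) (s * t) ((κ : K)⁻¹ * (c * d)) (mul_mem (hM1 hu) (hM1 hv)) (by rw [map_mul]; exact huv1)
    (mul_ne_zero (inv_ne_zero hκ0) (mul_ne_zero hc0 hd0)) ?_ ?_
  · rw [Units.val_mul]
    calc (u : R K V) * v * (u * v) = u * (v * u) * v := by simp only [mul_assoc]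
      _ = (u * u) * (v * v) := by rw [← hcomm]; simp only [mul_assoc]
      _ = _ := by rw [hs, ht, smul_mul_smul_comm, one_mul]
  · have e1 : (κ : K)⁻¹ * (c * d) * ((κ : K)⁻¹ * (c * d)) * (s * t) =
        (κ : K)⁻¹ * (κ : K)⁻¹ * ((c * c * s) * (d * d * t)) := by ring
    rw [e1, hc, hd]
    field_simp

/-- correction of signs: every lift can be multiplied by an element of `⟨a, b⟩` so that it commutes with `a`, `b` -/
theorem corr [Module.Finite K V] (h : Dat A 2 m) {a b : (R K V)ˣ} (ha : a ∈ Lf A) (hb : b ∈ Lf A)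
    (hab : An (a : R K V) b) {u : (R K V)ˣ} (hu : u ∈ Lf A) :
    ∃ w ∈ Lf A, (w = 1 ∨ w = a ∨ w = b ∨ w = a * b) ∧ Cm (a : R K V) ((u * w : (R K V)ˣ) : R K V) ∧
      Cm (b : R K V) ((u * w : (R K V)ˣ) : R K V) := by
  rcases h.dich ha hu with h1 | h1 <;> rcases h.dich hb hu with h2 | h2
  · exact ⟨1, one_mem _, Or.inl rfl, by rwa [mul_one], by rwa [mul_one]⟩
  · refine ⟨a, ha, Or.inr (Or.inl rfl), ?_, ?_⟩
    · rw [Units.val_mul]; exact h1.mul Cm.self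
    · rw [Units.val_mul]; exact h2.mul hab.symm
  · refine ⟨b, hb, Or.inr (Or.inr (Or.inl rfl)), ?_, ?_⟩
    · rw [Units.val_mul]; exact h1.mul hab
    · rw [Units.val_mul]; exact h2.mul Cm.self
  · refine ⟨a * b, mul_mem ha hb, Or.inr (Or.inr (Or.inr rfl)), ?_, ?_⟩
    · rw [Units.val_mul, Units.val_mul]; exact h1.mul (Cm.self.mul_an hab)
    · rw [Units.val_mul, Units.val_mul]; exact h2.mul (hab.symm.mul_cm Cm.self)

/-- a nonscalar lift commuting with `a`, `b` -/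
theorem exists_eta [Finite K] [Module.Finite K V] (h : Dat A 2 m) (hm : 2 ≤ m) {a b : (R K V)ˣ} (ha : a ∈ Lf A)
    (hb : b ∈ Lf A) (hab : An (a : R K V) b) : ∃ η ∈ Lf A, (¬ ∃ s : K, (η : R K V) = s • (1 : R K V)) ∧
      Cm (a : R K V) η ∧ Cm (b : R K V) η := by
  classical
  haveI : Finite (R K V) := finite_R
  by_contra hcon
  push Not at hcon
  -- every lift is a multiple of `1, a, b, ab`
  have h1 : ∀ f ∈ A, f ∈ ({1, (cj K V a)⁻¹, (cj K V b)⁻¹, (cj K V (a * b))⁻¹} : Finset (Equiv.Perm (R K V))) := by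
    intro f hf
    obtain ⟨u, rfl⟩ := h.hIN hf
    obtain ⟨w, hw, hw4, hw1, hw2⟩ := h.corr ha hb hab (u := u) hf
    by_cases hs : ∃ s : K, ((u * w : (R K V)ˣ) : R K V) = s • (1 : R K V)
    · obtain ⟨s, hs⟩ := hs
      have h2 := cj_eq_one' hs
      rw [map_mul] at h2
      have h3 := eq_inv_of_mul_eq_one_left h2
      rw [h3]
      rcases hw4 with rfl | rfl | rfl | rfl
      · simp
      · simp
      · simp
      · simp
    · exfalso
      push Not at hs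
      exact hcon (u * w) (mul_mem hf hw) hs hw1 hw2
  have h2 : Nat.card A ≤ 4 := by
    haveI : Fintype A := Fintype.ofFinite A
    rw [Nat.card_eq_fintype_card, ← Finset.card_univ]
    have h3 : (Finset.univ : Finset A).map ⟨fun x : A => (x : Equiv.Perm (R K V)), Subtype.val_injective⟩ ⊆
        ({1, (cj K V a)⁻¹, (cj K V b)⁻¹, (cj K V (a * b))⁻¹} : Finset (Equiv.Perm (R K V))) := by
      intro x hx
      rw [Finset.mem_map] at hx
      obtain ⟨y, -, rfl⟩ := hx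
      exact h1 y y.2
    have h4 := Finset.card_le_card h3
    rw [Finset.card_map] at h4
    exact h4.trans Finset.card_le_four
  rw [h.hcard] at h2
  have h3 : 2 ^ 4 ≤ 2 ^ (2 * m) := Nat.pow_le_pow_right (by norm_num) (by omega)
  omega

/-- the elements `a`, `b`, `c`, `η`, `ζ` -/
theorem exists_abc [Finite K] [Module.Finite K V] (h : Dat A 2 m) (hm : 2 ≤ m) :
    ∃ a b c : (R K V)ˣ, Nor a b A ∧ c ∈ Lf A ∧ An (a : R K V) c ∧ Cm (b : R K V) c ∧ cj K V b ≠ cj K V c ∧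
      (∃ D : K, (b : R K V) * b = D • (1 : R K V) ∧ ∀ σ : K →+* K, σ D = D → ∀ x, σ x = x) ∧
      (∃ D : K, D ≠ 0 ∧ (c : R K V) * c = D • (1 : R K V) ∧ ∀ σ : K →+* K, σ D ≠ -D) ∧
      ∃ η ∈ Lf A, ∃ ζ ∈ Lf A, Cm (a : R K V) η ∧ Cm (b : R K V) η ∧ Cm (a : R K V) ζ ∧ Cm (b : R K V) ζ ∧
        An (η : R K V) ζ := by
  haveI := h.nontriv
  have h2 := h.two_ne
  obtain ⟨κ, hκ⟩ := IsCyclic.exists_generator (α := Kˣ)
  have hκ0 : (κ : K) ≠ 0 := κ.ne_zero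
  obtain ⟨a, ha, hans, haa⟩ := h.exists_a hm
  obtain ⟨b0, hb0, hb0a⟩ := h.exists_an ha hans
  obtain ⟨s, hs0, hs⟩ := h.sq_sc hb0
  have hb : ∃ b ∈ Lf A, An (a : R K V) b ∧ ∃ D : K, (b : R K V) * b = D • (1 : R K V) ∧
      ∀ σ : K →+* K, σ D = D → ∀ x, σ x = x := by
    obtain ⟨c, hc0, hc⟩ := exists_scale hκ hs0
    rcases hc with hc | hc
    · obtain ⟨b, hb⟩ := exists_smul_unit b0 (mul_ne_zero hκ0 hc0)
      refine ⟨b, smul_mem_Lf hb hb0, ?_, (κ : K) * κ, ?_, ?_⟩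
      · rw [hb]; exact hb0a.symm.smul _
      · rw [hb, smul_mul_smul_comm, hs, smul_smul]
        congr 1
        calc (κ : K) * c * (κ * c) * s = κ * κ * (c * c * s) := by ring
          _ = κ * κ := by rw [hc, mul_one]
      · intro σ hσ
        rw [map_mul] at hσ
        rcases mul_self_eq_mul_self_iff.1 hσ with h3 | h3
        · exact sig_id hκ σ h3
        · exact absurd h3 (sig_neg hκ h2 σ)
    · obtain ⟨b, hb⟩ := exists_smul_unit b0 hc0
      refine ⟨b, smul_mem_Lf hb hb0, ?_, κ, ?_, fun σ hσ => sig_id hκ σ hσ⟩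
      · rw [hb]; exact hb0a.symm.smul _
      · rw [hb, smul_mul_smul_comm, hs, smul_smul, hc]
  obtain ⟨b, hbA, hab, hD⟩ := hb
  obtain ⟨η, hη, hηns, haη, hbη⟩ := h.exists_eta hm ha hbA hab
  -- `ζ`
  obtain ⟨ζ0, hζ0, hζη⟩ := h.exists_an hη hηns
  obtain ⟨w, hw, hw4, hw1, hw2⟩ := h.corr ha hbA hab hζ0
  have hwη : Cm (w : R K V) (η : R K V) := by
    rcases hw4 with rfl | rfl | rfl | rfl
    · exact (Cm.one (x := (η : R K V))).symm
    · exact haη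
    · exact hbη
    · rw [Units.val_mul]; exact ((haη.symm).mul hbη.symm).symm
  have hζ : An (η : R K V) ((ζ0 * w : (R K V)ˣ) : R K V) := by
    rw [Units.val_mul]
    exact hζη.symm.mul_cm hwη.symm
  -- `c`
  have hbηA : b * η ∈ Lf A := mul_mem hbA hη
  obtain ⟨t, ht0, ht⟩ := h.sq_sc hbηA
  obtain ⟨d, hd0, hd⟩ := exists_scale hκ ht0
  obtain ⟨c, hc⟩ := exists_smul_unit (b * η) hd0
  refine ⟨a, b, c, ⟨ha, hbA, haa, hab⟩, smul_mem_Lf hc hbηA, ?_, ?_, ?_, hD, ⟨d * d * t, ?_, ?_, ?_⟩,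
    η, hη, ζ0 * w, mul_mem hζ0 hw, haη, hbη, hw1, hw2, hζ⟩
  · rw [hc, Units.val_mul]; exact (hab.mul_cm haη).smul _
  · rw [hc, Units.val_mul]; exact ((Cm.self (x := (b : R K V))).mul hbη).smul _
  · rw [cj_eq_of' hc, map_mul]
    intro h3
    apply hηns
    exact cj_eq_one (left_eq_mul.1 h3)
  · exact mul_ne_zero (mul_ne_zero hd0 hd0) ht0
  · rw [hc, smul_mul_smul_comm, ht, smul_smul]
  · intro σ hσ
    rcases hd with hd | hd
    · rw [hd, map_one] at hσ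
      exact h2 (by linear_combination hσ)
    · rw [hd] at hσ
      exact sig_neg hκ h2 σ hσ

end Dat

end Cfsg.Agent.H716.FC
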