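import Cfsg.Agent.H716.FC.Two

/-!
# S5764, extraspecial type normalizers, `r = 2` (helper716): commuting and anticommuting elements, lemmas A and B
-/

set_option autoImplicit false

namespace Cfsg.Agent.H716.FC
open Cfsg.Agent.H198.FC Module

universe u v

section sign

variable {K : Type u} [Field K] {V : Type v} [AddCommGroup V] [Module K V]

/-- `x` and `X` commute -/
def Cm (x X : R K V) : Prop := x * X = X * x

/-- `x` and `X` anticommute -/
def An (x X : R K V) : Prop := x * X = -(X * x)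

variable {x X Y : R K V}

theorem Cm.mul (hX : Cm x X) (hY : Cm x Y) : Cm x (X * Y) := by
  unfold Cm at *; rw [← mul_assoc, hX, mul_assoc, hY, mul_assoc]

theorem Cm.mul_an (hX : Cm x X) (hY : An x Y) : An x (X * Y) := by
  unfold Cm at *; unfold An at *; rw [← mul_assoc, hX, mul_assoc, hY, mul_neg, mul_assoc]

theorem An.mul_cm (hX : An x X) (hY : Cm x Y) : An x (X * Y) := by
  unfold Cm at *; unfold An at *; rw [← mul_assoc, hX, neg_mul, mul_assoc, hY, mul_assoc]

theorem An.mul (hX : An x X) (hY : An x Y) : Cm x (X * Y) := by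
  unfold An at *; unfold Cm; rw [← mul_assoc, hX, neg_mul, mul_assoc, hY, mul_neg, neg_neg, mul_assoc]

theorem Cm.symm (h : Cm x X) : Cm X x := by unfold Cm at *; rw [h]

theorem An.symm (h : An x X) : An X x := by unfold An at *; rw [h, neg_neg]

theorem Cm.one : Cm x 1 := by unfold Cm; simp

theorem Cm.self : Cm x x := rfl

theorem Cm.inv {u : (R K V)ˣ} (h : Cm x (u : R K V)) : Cm x ((u⁻¹ : (R K V)ˣ) : R K V) := by
  unfold Cm at *
  calc x * ((u⁻¹ : (R K V)ˣ) : R K V) = ((u⁻¹ : (R K V)ˣ) : R K V) * (u * x) * ((u⁻¹ : (R K V)ˣ) : R K V) := by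
        simp [← mul_assoc]
    _ = _ := by rw [← h]; simp [mul_assoc]

theorem An.inv {u : (R K V)ˣ} (h : An x (u : R K V)) : An x ((u⁻¹ : (R K V)ˣ) : R K V) := by
  unfold An at *
  have h' : (u : R K V) * x = -(x * u) := by rw [h, neg_neg]
  calc x * ((u⁻¹ : (R K V)ˣ) : R K V) = ((u⁻¹ : (R K V)ˣ) : R K V) * (u * x) * ((u⁻¹ : (R K V)ˣ) : R K V) := by
        simp [← mul_assoc]
    _ = _ := by rw [h']; simp [mul_assoc]

theorem Cm.smul (s : K) (h : Cm x X) : Cm x (s • X) := by
  unfold Cm at *; rw [mul_smul_comm, h, smul_mul_assoc]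

theorem An.smul (s : K) (h : An x X) : An x (s • X) := by
  unfold An at *; rw [mul_smul_comm, h, smul_mul_assoc, smul_neg]

theorem Cm.sum {ι : Type*} (s : Finset ι) {F : ι → R K V} (h : ∀ i ∈ s, Cm x (F i)) : Cm x (∑ i ∈ s, F i) := by
  unfold Cm at *
  rw [Finset.mul_sum, Finset.sum_mul]
  exact Finset.sum_congr rfl h

theorem An.sum {ι : Type*} (s : Finset ι) {F : ι → R K V} (h : ∀ i ∈ s, An x (F i)) : An x (∑ i ∈ s, F i) := by
  unfold An at *
  rw [Finset.mul_sum, Finset.sum_mul, ← Finset.sum_neg_distrib]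
  exact Finset.sum_congr rfl h

theorem An.trace (h2 : (2 : K) ≠ 0) {v : (R K V)ˣ} {X : R K V} (h : An (v : R K V) X) : LinearMap.trace K V X = 0 :=
  trace_anti h2 h

end sign

namespace Dat

variable {K : Type u} [Field K] {V : Type v} [AddCommGroup V] [Module K V]
variable {A : Subgroup (Equiv.Perm (R K V))} {m : ℕ}

theorem two_ne [Module.Finite K V] (h : Dat A 2 m) : (2 : K) ≠ 0 := by
  have := h.r_ne_zero
  exact_mod_cast this

theorem dich [Module.Finite K V] (h : Dat A 2 m) {u v : (R K V)ˣ} (hu : u ∈ Lf A) (hv : v ∈ Lf A) :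
    Cm (u : R K V) v ∨ An (u : R K V) v := by
  obtain ⟨ε, hε⟩ := h.comm hu hv
  have h1 := h.eps_pow hu hε
  have h1' : ε * ε = 1 := by rw [← sq]; exact h1
  rcases mul_self_eq_one_iff.1 h1' with h2 | h2
  · left
    unfold Cm
    rw [hε, h2, one_smul]
  · right
    unfold An
    rw [hε, h2, neg_smul, one_smul]

theorem exists_an [Module.Finite K V] (h : Dat A 2 m) {u : (R K V)ˣ} (hu : u ∈ Lf A)
    (hs : ¬ ∃ s : K, (u : R K V) = s • (1 : R K V)) : ∃ v ∈ Lf A, An (v : R K V) u := by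
  by_contra hcon
  push Not at hcon
  apply hs
  apply h.sc_of_comm'
  intro v hv
  rcases h.dich hv hu with h1 | h1
  · exact h1.symm
  · exact absurd h1 (hcon v hv)

theorem sq_sc [Module.Finite K V] (h : Dat A 2 m) {u : (R K V)ˣ} (hu : u ∈ Lf A) :
    ∃ s : K, s ≠ 0 ∧ (u : R K V) * u = s • (1 : R K V) := by
  haveI := h.nontriv
  obtain ⟨s, hs⟩ := h.pow_sc hu
  rw [sq] at hs
  refine ⟨s, ?_, hs⟩
  rintro rfl
  rw [zero_smul] at hs
  exact (u * u).ne_zero (by simpa using hs)

/-- the shape of the two kinds of elements of the normalizer -/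
structure Nor (a b : (R K V)ˣ) (A : Subgroup (Equiv.Perm (R K V))) : Prop where
  ha : a ∈ Lf A
  hb : b ∈ Lf A
  haa : (a : R K V) * a = 1
  hab : An (a : R K V) b

section AB

variable {a b : (R K V)ˣ}

theorem Nor.inv_a (hN : Nor a b A) : ((a⁻¹ : (R K V)ˣ) : R K V) = a := by
  have h1 : a * a = 1 := Units.ext (by rw [Units.val_mul, hN.haa]; rfl)
  have h2 : a⁻¹ = a := inv_eq_of_mul_eq_one_left h1
  rw [h2]

theorem tt_one [Module.Finite K V] (g : (R K V)ˣ) : tt g 1 = LinearMap.trace K V (g : R K V) := by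
  unfold tt; simp

theorem Nor.tt_a (hN : Nor a b A) [Module.Finite K V] (g : (R K V)ˣ) :
    tt g a = LinearMap.trace K V ((a : R K V) * g) := by
  unfold tt; rw [hN.inv_a, LinearMap.trace_mul_comm]

theorem Nor.tt_mul (hN : Nor a b A) [Module.Finite K V] (g v : (R K V)ˣ) :
    tt g (a * v) = LinearMap.trace K V ((a : R K V) * g * ((v⁻¹ : (R K V)ˣ) : R K V)) := by
  unfold tt
  rw [mul_inv_rev, Units.val_mul, hN.inv_a, ← mul_assoc, LinearMap.trace_mul_comm, mul_assoc]

/-- **Lemma A** -/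
theorem lemA [Finite K] [Module.Finite K V] (h : Dat A 2 m) (hN : Nor a b A) {g : (R K V)ˣ}
    (hg : ∀ α ∈ A, cj K V g * α * (cj K V g)⁻¹ ∈ A) {W : R K V} (haW : An (a : R K V) W) (hbW : Cm (b : R K V) W)
    (hgW : (g : R K V) = 1 + (1 + a) * W) {u : (R K V)ˣ} (hu : u ∈ Lf A) (hau : An (a : R K V) u)
    (hbu : Cm (b : R K V) u) : LinearMap.trace K V (W * ((u⁻¹ : (R K V)ˣ) : R K V)) = 0 := by
  by_contra hne
  have h2 := h.two_ne
  have hba := hN.hab.symm
  have hui := hau.inv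
  have hbui := hbu.inv
  have t1 : tt g 1 ≠ 0 := by
    rw [tt_one, hgW, map_add, add_mul, one_mul, map_add, haW.trace h2, (hba.mul_cm hbW).trace h2]
    simpa using h.n_ne_zero
  have hag : (a : R K V) * g = a + (1 + a) * W := by
    rw [hgW, mul_add, mul_one, ← mul_assoc, mul_add, mul_one, hN.haa, add_comm (1 : R K V) (a : R K V)]
  have ta : tt g a = 0 := by
    rw [hN.tt_a, hag, map_add, add_mul, one_mul, map_add, haW.trace h2, (hba.mul_cm hbW).trace h2, hba.trace h2]
    simp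
  have tu : tt g u ≠ 0 := by
    unfold tt
    rw [hgW, add_mul, add_mul, add_mul, one_mul, one_mul, map_add, map_add, hui.trace h2,
      ((hba.mul_cm hbW).mul_cm hbui).trace h2, zero_add, add_zero]
    exact hne
  have tau : tt g (a * u) ≠ 0 := by
    rw [hN.tt_mul, hag, add_mul, add_mul, add_mul, one_mul, map_add, map_add, (hba.mul_cm hbui).trace h2,
      ((hba.mul_cm hbW).mul_cm hbui).trace h2, zero_add, add_zero]
    exact hne
  refine h.supp_three hg (one_mem _) hu (mul_mem hN.ha hu) t1 tu tau (z := a) ?_ ta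
  rw [map_one, one_mul, map_mul, ← mul_assoc, h.hcomm _ hu _ hN.ha, mul_assoc, ← sq, h.hpow _ hu, mul_one]

/-- **Lemma B** -/
theorem lemB [Finite K] [Module.Finite K V] (h : Dat A 2 m) (hN : Nor a b A) {g : (R K V)ˣ}
    (hg : ∀ α ∈ A, cj K V g * α * (cj K V g)⁻¹ ∈ A) {W W' : R K V} (haW : An (a : R K V) W)
    (hbW : Cm (b : R K V) W) (haW' : An (a : R K V) W') (hbW' : Cm (b : R K V) W')
    (hgW : (g : R K V) = (1 + (1 + a) * W) * (1 - (1 - a) * W')) {u c : (R K V)ˣ}
    (hu : u ∈ Lf A) (hau : An (a : R K V) u) (hbu : Cm (b : R K V) u)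
    (hc : c ∈ Lf A) (hac : An (a : R K V) c) (hbc : Cm (b : R K V) c) (huc : cj K V u ≠ cj K V c)
    {s t : K} (hs : LinearMap.trace K V (W * ((u⁻¹ : (R K V)ˣ) : R K V)) = finrank K V)
    (hs' : LinearMap.trace K V (W' * ((u⁻¹ : (R K V)ˣ) : R K V)) = finrank K V * s)
    (ht : LinearMap.trace K V (W * ((c⁻¹ : (R K V)ˣ) : R K V)) = finrank K V)
    (ht' : LinearMap.trace K V (W' * ((c⁻¹ : (R K V)ˣ) : R K V)) = finrank K V * t)
    (ht0 : t ≠ 0) (ht1 : t ^ 2 ≠ -1) : False := by
  have h2 := h.two_ne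
  have hn := h.n_ne_zero
  have hba := hN.hab.symm
  have hA2 : ∀ p ∈ Lf A, cj K V p * cj K V p = 1 := fun p hp => by rw [← sq]; exact h.hpow _ hp
  have hAc : ∀ p ∈ Lf A, ∀ q ∈ Lf A, cj K V p * cj K V q = cj K V q * cj K V p := fun p hp q hq => h.hcomm _ hp _ hq
  -- `g` and `a g`
  have hg1 : (g : R K V) = 1 + W + a * W - W' + a * W' - (2 : K) • (W * W') - (2 : K) • ((a : R K V) * (W * W')) := by
    have e0 : W * (a : R K V) = -(a * W) := by rw [haW, neg_neg]
    have e1 : (1 + (a : R K V)) * W * ((1 - (a : R K V)) * W') = (2 : K) • (W * W') + (2 : K) • ((a : R K V) * (W * W')) := by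
      have e2 : (1 + (a : R K V)) * W * (1 - (a : R K V)) = (2 : K) • W + (2 : K) • ((a : R K V) * W) := by
        rw [mul_sub, mul_one, mul_assoc, e0, add_mul, add_mul, one_mul, one_mul, mul_neg, ← mul_assoc, hN.haa, one_mul]
        rw [two_smul, two_smul]
        abel
      rw [← mul_assoc, e2, add_mul, smul_mul_assoc, smul_mul_assoc, mul_assoc]
    rw [hgW, mul_sub, mul_one, add_mul (1 : R K V) ((1 + (a : R K V)) * W), one_mul, e1, add_mul, sub_mul, one_mul,
      one_mul]
    abel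
  have hag : (a : R K V) * g = a + W + a * W + W' - a * W' - (2 : K) • (W * W') - (2 : K) • ((a : R K V) * (W * W')) := by
    rw [hg1]
    simp only [mul_add, mul_sub, mul_one, mul_smul_comm, ← mul_assoc, hN.haa, one_mul]
    abel
  -- the traces
  have hWW : Cm (a : R K V) (W * W') := haW.mul haW'
  have hbWW : Cm (b : R K V) (W * W') := hbW.mul hbW'
  have t1 : tt g 1 = finrank K V - 2 * LinearMap.trace K V (W * W') := by
    rw [tt_one, hg1]
    simp only [map_add, map_sub, map_smul, smul_eq_mul, haW.trace h2, haW'.trace h2, (hba.mul_cm hbW).trace h2,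
      (hba.mul_cm hbW').trace h2, (hba.mul_cm hbWW).trace h2]
    simp
  have ta : tt g a = - (2 * LinearMap.trace K V (W * W')) := by
    rw [hN.tt_a, hag]
    simp only [map_add, map_sub, map_smul, smul_eq_mul, haW.trace h2, haW'.trace h2, (hba.mul_cm hbW).trace h2,
      (hba.mul_cm hbW').trace h2, (hba.mul_cm hbWW).trace h2, hba.trace h2]
    simp
  have tv : ∀ v : (R K V)ˣ, An (a : R K V) v → Cm (b : R K V) v →
      tt g v = LinearMap.trace K V (W * ((v⁻¹ : (R K V)ˣ) : R K V)) -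
        LinearMap.trace K V (W' * ((v⁻¹ : (R K V)ˣ) : R K V)) ∧
      tt g (a * v) = LinearMap.trace K V (W * ((v⁻¹ : (R K V)ˣ) : R K V)) +
        LinearMap.trace K V (W' * ((v⁻¹ : (R K V)ˣ) : R K V)) := by
    intro v hav hbv
    have a1 := hav.inv
    have b1 := hbv.inv
    constructor
    · unfold tt
      rw [hg1]
      simp only [add_mul, sub_mul, smul_mul_assoc, one_mul, map_add, map_sub, map_smul, smul_eq_mul, a1.trace h2,
        ((hba.mul_cm hbW).mul_cm b1).trace h2, ((hba.mul_cm hbW').mul_cm b1).trace h2,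
        ((hba.mul_cm hbWW).mul_cm b1).trace h2, (hWW.mul_an a1).trace h2]
      ring
    · rw [hN.tt_mul, hag]
      simp only [add_mul, sub_mul, smul_mul_assoc, map_add, map_sub, map_smul, smul_eq_mul,
        ((hba.mul_cm hbW).mul_cm b1).trace h2, ((hba.mul_cm hbW').mul_cm b1).trace h2,
        ((hba.mul_cm hbWW).mul_cm b1).trace h2, (hWW.mul_an a1).trace h2, (hba.mul_cm b1).trace h2]
      ring
  have tw : ∀ v : (R K V)ˣ, v ∈ Lf A → Cm (a : R K V) v → Cm (b : R K V) v →
      (¬ ∃ s : K, (v : R K V) = s • (1 : R K V)) → tt g v = tt g (a * v) := by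
    intro v hv hav hbv hns
    have a1 := hav.inv
    have b1 := hbv.inv
    have e1 : LinearMap.trace K V ((v⁻¹ : (R K V)ˣ) : R K V) = 0 := by
      apply h.trace_zero (inv_mem hv)
      rintro ⟨s, hs⟩
      have e2 := cj_eq_one' hs
      rw [map_inv, inv_eq_one] at e2
      exact hns (cj_eq_one e2)
    have e2 : tt g v = -(2 * LinearMap.trace K V (W * W' * ((v⁻¹ : (R K V)ˣ) : R K V))) := by
      unfold tt
      rw [hg1]
      simp only [add_mul, sub_mul, smul_mul_assoc, one_mul, map_add, map_sub, map_smul, smul_eq_mul, e1,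
        (haW.mul_cm a1).trace h2, (haW'.mul_cm a1).trace h2,
        ((hba.mul_cm hbW).mul_cm b1).trace h2, ((hba.mul_cm hbW').mul_cm b1).trace h2,
        ((hba.mul_cm hbWW).mul_cm b1).trace h2]
      ring
    have e3 : tt g (a * v) = -(2 * LinearMap.trace K V (W * W' * ((v⁻¹ : (R K V)ˣ) : R K V))) := by
      rw [hN.tt_mul, hag]
      simp only [add_mul, sub_mul, smul_mul_assoc, map_add, map_sub, map_smul, smul_eq_mul,
        (haW.mul_cm a1).trace h2, (haW'.mul_cm a1).trace h2,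
        ((hba.mul_cm hbW).mul_cm b1).trace h2, ((hba.mul_cm hbW').mul_cm b1).trace h2,
        ((hba.mul_cm hbWW).mul_cm b1).trace h2, (hba.mul_cm b1).trace h2]
      ring
    rw [e2, e3]
  obtain ⟨tc1, tc2⟩ := tv c hac hbc
  obtain ⟨tu1, tu2⟩ := tv u hau hbu
  rw [ht, ht'] at tc1 tc2
  rw [hs, hs'] at tu1 tu2
  -- not both of `c`, `a c` are in the support
  have hflat : ¬ (tt g c ≠ 0 ∧ tt g (a * c) ≠ 0) := by
    rintro ⟨h3, h4⟩
    obtain ⟨D, hD0, hD⟩ := h.sq_sc hc
    have hD' : ((a * c : (R K V)ˣ) : R K V) * ((a * c : (R K V)ˣ) : R K V) = (-D) • (1 : R K V) := by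
      rw [Units.val_mul]
      calc (a : R K V) * c * (a * c) = a * (c * a) * c := by simp only [mul_assoc]
        _ = _ := by
          rw [hac.symm, mul_neg, ← mul_assoc, hN.haa, one_mul, neg_mul, hD, neg_smul]
    have h5 := h.supp_flat hg hc (mul_mem hN.ha hc) h3 h4 hD hD'
    rw [tc1, tc2] at h5
    have h6 : D ^ 2 * (finrank K V : K) ^ 4 * (8 * t) * (1 + t ^ 2) = 0 := by linear_combination -h5
    have h8 : (8 : K) ≠ 0 := by
      have : (8 : K) = 2 * 2 * 2 := by norm_num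
      rw [this]
      exact mul_ne_zero (mul_ne_zero h2 h2) h2
    rcases mul_eq_zero.1 h6 with h7 | h7
    · exact mul_ne_zero (mul_ne_zero (pow_ne_zero _ hD0) (pow_ne_zero _ hn)) (mul_ne_zero h8 ht0) h7
    · exact ht1 (by linear_combination h7)
  -- hence not both of `1`, `a` are
  have h1a : ¬ (tt g 1 ≠ 0 ∧ tt g a ≠ 0) := by
    rintro ⟨h3, h4⟩
    apply hflat
    by_cases h5 : tt g c = 0
    · have h6 : tt g (a * c) ≠ 0 := by
        intro h6
        rw [tc1] at h5
        rw [tc2] at h6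
        have h7 : (2 : K) * (finrank K V : K) = 0 := by linear_combination h5 + h6
        exact mul_ne_zero h2 hn h7
      exfalso
      refine h.supp_three hg (one_mem _) hN.ha (mul_mem hN.ha hc) h3 h4 h6 (z := c) ?_ h5
      rw [map_one, one_mul, map_mul, ← mul_assoc, hA2 a hN.ha, one_mul]
    · refine ⟨h5, ?_⟩
      refine h.supp_three hg (one_mem _) hN.ha hc h3 h4 h5 (z := a * c) ?_
      rw [map_one, one_mul, map_mul]
  -- nor both of `u`, `a u`
  have hua : ¬ (tt g u ≠ 0 ∧ tt g (a * u) ≠ 0) := by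
    rintro ⟨h3, h4⟩
    by_cases h5 : tt g 1 = 0
    · have h6 : tt g a ≠ 0 := by
        intro h6
        rw [t1] at h5
        rw [ta] at h6
        exact hn (by linear_combination h5 - h6)
      refine h.supp_three hg hN.ha hu (mul_mem hN.ha hu) h6 h3 h4 (z := 1) ?_ h5
      rw [map_one, ← map_mul (cj K V) a u]
      exact (hA2 _ (mul_mem hN.ha hu)).symm
    · refine h1a ⟨h5, ?_⟩
      refine h.supp_three hg (one_mem _) hu (mul_mem hN.ha hu) h5 h3 h4 (z := a) ?_
      rw [map_one, one_mul, map_mul, ← mul_assoc, hAc u hu a hN.ha, mul_assoc, hA2 u hu, mul_one]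
  -- representatives `p ∈ {1, a}`, `q ∈ {c, a c}`, `r ∈ {u, a u}` of the support
  set α := cj K V a with hα
  set C := cj K V c with hC
  set U := cj K V u with hU
  have hp : ∃ p ∈ Lf A, tt g p ≠ 0 ∧ (cj K V p = 1 ∨ cj K V p = α) := by
    by_cases h5 : tt g 1 = 0
    · refine ⟨a, hN.ha, fun h6 => ?_, Or.inr rfl⟩
      rw [t1] at h5
      rw [ta] at h6
      exact hn (by linear_combination h5 - h6)
    · exact ⟨1, one_mem _, h5, Or.inl (map_one _)⟩
  have hq : ∃ q ∈ Lf A, tt g q ≠ 0 ∧ (cj K V q = C ∨ cj K V q = α * C) := by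
    by_cases h5 : tt g c = 0
    · refine ⟨a * c, mul_mem hN.ha hc, fun h6 => ?_, Or.inr (map_mul _ _ _)⟩
      rw [tc1] at h5
      rw [tc2] at h6
      have h7 : (2 : K) * (finrank K V : K) = 0 := by linear_combination h5 + h6
      exact mul_ne_zero h2 hn h7
    · exact ⟨c, hc, h5, Or.inl rfl⟩
  have hr : ∃ q ∈ Lf A, tt g q ≠ 0 ∧ (cj K V q = U ∨ cj K V q = α * U) := by
    by_cases h5 : tt g u = 0
    · refine ⟨a * u, mul_mem hN.ha hu, fun h6 => ?_, Or.inr (map_mul _ _ _)⟩
      rw [tu1] at h5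
      rw [tu2] at h6
      have h7 : (2 : K) * (finrank K V : K) = 0 := by linear_combination h5 + h6
      exact mul_ne_zero h2 hn h7
    · exact ⟨u, hu, h5, Or.inl rfl⟩
  obtain ⟨p, hpA, hpt, hp⟩ := hp
  obtain ⟨q, hqA, hqt, hq⟩ := hq
  obtain ⟨r, hrA, hrt, hr⟩ := hr
  have hαα : ∀ x, α * (α * x) = x := fun x => by rw [← mul_assoc, hA2 a hN.ha, one_mul]
  have hCα : ∀ x, C * (α * x) = α * (C * x) := fun x => by rw [← mul_assoc, hAc c hc a hN.ha, mul_assoc]
  have hUα : ∀ x, U * (α * x) = α * (U * x) := fun x => by rw [← mul_assoc, hAc u hu a hN.ha, mul_assoc]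
  have hcls : cj K V p * cj K V q * cj K V r = C * U ∨ cj K V p * cj K V q * cj K V r = α * (C * U) := by
    rcases hp with hp | hp <;> rcases hq with hq | hq <;> rcases hr with hr | hr <;> rw [hp, hq, hr] <;>
      simp only [mul_assoc, one_mul, hαα, hCα, hUα, true_or, or_true]
  have hcuA : c * u ∈ Lf A := mul_mem hc hu
  have hcu : tt g (c * u) = tt g (a * (c * u)) := by
    apply tw _ hcuA (by rw [Units.val_mul]; exact hac.mul hau) (by rw [Units.val_mul]; exact hbc.mul hbu)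
    rintro ⟨s, hs⟩
    apply huc
    have h3 := cj_eq_one' hs
    rw [map_mul] at h3
    have h4 : C * U * U = U := by rw [h3, one_mul]
    rw [mul_assoc, hA2 u hu, mul_one] at h4
    exact h4.symm
  have hcu0 : tt g (c * u) ≠ 0 := by
    rcases hcls with h3 | h3
    · exact h.supp_three hg hpA hqA hrA hpt hqt hrt (z := c * u) (by rw [map_mul]; exact h3.symm)
    · rw [hcu]
      exact h.supp_three hg hpA hqA hrA hpt hqt hrt (z := a * (c * u)) (by rw [map_mul, map_mul]; exact h3.symm)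
  have hcu1 : tt g (a * (c * u)) ≠ 0 := by rwa [← hcu]
  have hacuA : a * (c * u) ∈ Lf A := mul_mem hN.ha hcuA
  have hfin : tt g (a * p) ≠ 0 := by
    refine h.supp_three hg hpA hcuA hacuA hpt hcu0 hcu1 (z := a * p) ?_
    rw [map_mul (cj K V) a p, map_mul (cj K V) a (c * u), ← hα, hAc _ hcuA |> fun f => mul_assoc (cj K V p) _ _]
    rw [← mul_assoc (cj K V (c * u)) α, hAc _ hcuA a hN.ha, mul_assoc α, hA2 _ hcuA, mul_one]
    exact hAc a hN.ha p hpA
  rcases hp with hp | hp
  · exact h1a ⟨tt_ne (v := 1) (by rw [hp, map_one]) hpt, tt_ne (v := a) (by rw [map_mul, hp, mul_one]) hfin⟩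
  · exact h1a ⟨tt_ne (v := 1) (by rw [map_mul, hp, map_one]; exact hA2 a hN.ha) hfin, tt_ne (v := a) hp hpt⟩

end AB

end Dat

end Cfsg.Agent.H716.FC
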