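import Cfsg.Agent.H716.FC.TwoMain

/-!
# S5764, extraspecial type normalizers, `r = 2`, `n ≥ 4` (helper716): the core, for the unitary groups
-/

set_option autoImplicit false

namespace Cfsg.Agent.H716.FC
open Cfsg.Agent.H198.FC Module

universe u v

variable {K : Type u} [Field K] {V : Type v} [AddCommGroup V] [Module K V]

namespace Dat

variable {A : Subgroup (Equiv.Perm (R K V))} {m : ℕ}

open Classical in
/-- the classes anticommuting with `a` and commuting with `b` -/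
noncomputable def TT [Fintype A] (a b : (R K V)ˣ) (y : A → (R K V)ˣ) : Finset A :=
  Finset.univ.filter fun α => An (a : R K V) (y α) ∧ Cm (b : R K V) (y α)

theorem mem_TT [Fintype A] {a b : (R K V)ˣ} {y : A → (R K V)ˣ} {α : A} :
    α ∈ TT a b y ↔ An (a : R K V) (y α) ∧ Cm (b : R K V) (y α) := by
  classical
  simp only [TT, Finset.mem_filter, Finset.mem_univ, true_and]

theorem mem_TT_of [Fintype A] {a b : (R K V)ˣ} {y : A → (R K V)ˣ} (hy : ∀ α : A, cj K V (y α) = α)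
    {u : (R K V)ˣ} (hu : u ∈ Lf A) (hau : An (a : R K V) u) (hbu : Cm (b : R K V) u) :
    (⟨cj K V u, hu⟩ : A) ∈ TT a b y := by
  obtain ⟨s, hs⟩ := cj_eq_of (x := y ⟨cj K V u, hu⟩) (y := u) (hy _)
  rw [mem_TT, hs]
  exact ⟨hau.smul _, hbu.smul _⟩

/-- the unipotent element -/
noncomputable def ZZ [Fintype A] (a b : (R K V)ˣ) (y : A → (R K V)ˣ) : R K V :=
  (1 + (a : R K V)) * ∑ α ∈ TT a b y, (y α : R K V)

theorem ZZ_an [Fintype A] {a b : (R K V)ˣ} (hN : Nor a b A) (y : A → (R K V)ˣ) :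
    An (a : R K V) (ZZ a b y) := by
  have h1 : Cm (a : R K V) (1 + (a : R K V)) := by
    unfold Cm; rw [mul_add, add_mul, mul_one, one_mul]
  exact h1.mul_an (An.sum _ fun α hα => (mem_TT.1 hα).1)

theorem ZZ_sq [Fintype A] {a b : (R K V)ˣ} (hN : Nor a b A) (y : A → (R K V)ˣ) : ZZ a b y * ZZ a b y = 0 := by
  have haW : An (a : R K V) (∑ α ∈ TT a b y, (y α : R K V)) := An.sum _ fun α hα => (mem_TT.1 hα).1
  unfold ZZ
  set W : R K V := ∑ α ∈ TT a b y, (y α : R K V) with hW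
  have e0 : W * (a : R K V) = -(a * W) := by rw [haW, neg_neg]
  have e1 : W * (1 + (a : R K V)) = (1 - (a : R K V)) * W := by
    rw [mul_add, e0, mul_one, sub_mul, one_mul, sub_eq_add_neg]
  have e2 : (1 + (a : R K V)) * (1 - (a : R K V)) = 0 := by
    rw [add_mul, mul_sub, mul_sub, hN.haa]; simp
  calc (1 + (a : R K V)) * W * ((1 + (a : R K V)) * W) = (1 + (a : R K V)) * (W * (1 + (a : R K V))) * W := by
        simp only [mul_assoc]
    _ = (1 + (a : R K V)) * (1 - (a : R K V)) * W * W := by rw [e1]; simp only [mul_assoc]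
    _ = 0 := by rw [e2]; simp

/-- the automorphism part of the core -/
theorem core_auto [Finite K] [Module.Finite K V] (h : Dat A 2 m) [Fintype A] {S : Subgroup (Equiv.Perm (R K V))}
    (hnorm : ∀ g ∈ S, ∀ f ∈ A, g * f * g⁻¹ ∈ A) {a b c : (R K V)ˣ} (hN : Nor a b A) (hc : c ∈ Lf A)
    (hac : An (a : R K V) c) (hbc : Cm (b : R K V) c) (hbc' : cj K V b ≠ cj K V c) {Dc : K}
    (hDc : (c : R K V) * c = Dc • (1 : R K V)) (hDc' : ∀ σ : K →+* K, σ Dc ≠ -Dc)
    {y : A → (R K V)ˣ} (hy : ∀ α : A, cj K V (y α) = α) (hyb : y ⟨cj K V b, hN.hb⟩ = b) (hyc : y ⟨cj K V c, hc⟩ = c)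
    {x : (R K V)ˣ} (hx : (x : R K V) = 1 + ZZ a b y) (hxi : ((x⁻¹ : (R K V)ˣ) : R K V) = 1 - ZZ a b y)
    {f : Equiv.Perm (R K V)} (hfS : f ∈ S) (hf : f ∈ RA K V) (hmul : ∀ X Y, f (X * Y) = f X * f Y)
    (hfA : ∀ g ∈ A, f * g = g * f) (hfx : cj K V x * f * (cj K V x)⁻¹ ∈ S) :
    f a = a ∧ ∀ α ∈ TT a b y, f (y α) = y α := by
  classical
  haveI := h.nontriv
  haveI : Finite (R K V) := finite_R
  have h2 := h.two_ne
  have hn := h.n_ne_zero
  have hba := hN.hab.symm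
  let βb : A := ⟨cj K V b, hN.hb⟩
  let βc : A := ⟨cj K V c, hc⟩
  have hyA : ∀ α : A, y α ∈ Lf A := fun α => rep_mem hy α
  set T : Finset A := TT a b y with hTdef
  have hT : ∀ α, α ∈ T ↔ An (a : R K V) (y α) ∧ Cm (b : R K V) (y α) := fun α => mem_TT
  have hbT : βb ∈ T := mem_TT_of hy hN.hb hN.hab Cm.self
  have hcT : βc ∈ T := mem_TT_of hy hc hac hbc
  have hZdef : ZZ a b y = (1 + (a : R K V)) * ∑ α ∈ T, (y α : R K V) := rfl
  set W : R K V := ∑ α ∈ T, (y α : R K V) with hW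
  have haW : An (a : R K V) W := An.sum T fun α hα => ((hT α).1 hα).1
  have hbW : Cm (b : R K V) W := Cm.sum T fun α hα => ((hT α).1 hα).2
  have htr : ∀ (ρ : A → K) (α : A), α ∈ T →
      LinearMap.trace K V ((∑ β ∈ T, ρ β • (y β : R K V)) * (((y α)⁻¹ : (R K V)ˣ) : R K V)) = finrank K V * ρ α := by
    intro ρ α hα
    rw [Finset.sum_mul, map_sum, Finset.sum_eq_single α]
    · rw [smul_mul_assoc, map_smul, h.trace_rep hy, if_pos rfl, smul_eq_mul, mul_comm]
    · intro β _ hβ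
      rw [smul_mul_assoc, map_smul, h.trace_rep hy, if_neg (Ne.symm hβ), smul_zero]
    · intro h3
      exact absurd hα h3
  have htrW : ∀ α ∈ T, LinearMap.trace K V (W * (((y α)⁻¹ : (R K V)ˣ) : R K V)) = finrank K V := by
    intro α hα
    have h3 := htr (fun _ => 1) α hα
    simp only [one_smul, mul_one] at h3
    exact h3
  set Z : R K V := (1 + (a : R K V)) * W with hZ
  rw [hZdef] at hx hxi
  have e0 : W * (a : R K V) = -(a * W) := by rw [haW, neg_neg]
  have hf1 := RA_one hf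
  obtain ⟨σ, hσ⟩ := exists_sig hf
  have hρ : ∀ α : A, ∃ ρ : K, ρ ≠ 0 ∧ f (y α) = ρ • (y α : R K V) := fun α => h.exists_rho hf hfA (hyA α)
  choose ρ hρ0 hρ using hρ
  obtain ⟨δ, hδ0, hδ⟩ := h.exists_rho hf hfA hN.ha
  have hδ1 : δ = 1 ∨ δ = -1 := by
    have h3 := h.rho_sq hf hσ hδ (D := 1) (by rw [hN.haa, one_smul])
    rw [mul_one, map_one] at h3
    exact mul_self_eq_one_iff.1 h3
  have hfsum : ∀ s : Finset A, f (∑ α ∈ s, (y α : R K V)) = ∑ α ∈ s, ρ α • (y α : R K V) := by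
    intro s
    induction s using Finset.induction_on with
    | empty => rw [Finset.sum_empty, Finset.sum_empty, RA_zero hf]
    | insert α s hα ih => rw [Finset.sum_insert hα, Finset.sum_insert hα, hf.1, ih, hρ]
  have hfW : f W = ∑ α ∈ T, ρ α • (y α : R K V) := hfsum T
  have haW' : An (a : R K V) (f W) := by rw [hfW]; exact An.sum T fun α hα => ((hT α).1 hα).1.smul _
  have hbW' : Cm (b : R K V) (f W) := by rw [hfW]; exact Cm.sum T fun α hα => ((hT α).1 hα).2.smul _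
  have htrW' : ∀ α ∈ T, LinearMap.trace K V (f W * (((y α)⁻¹ : (R K V)ˣ) : R K V)) = finrank K V * ρ α := by
    intro α hα
    rw [hfW]
    exact htr ρ α hα
  have hd : cj K V x * f * (cj K V x)⁻¹ * f⁻¹ ∈ S := mul_mem hfx (inv_mem hfS)
  have hfsub : ∀ X Y : R K V, f (X - Y) = f X - f Y := by
    intro X Y
    rw [eq_sub_iff_add_eq, ← hf.1, sub_add_cancel]
  have hfx1 : f (x : R K V) = 1 + f Z := by
    rw [hx, hf.1, hf1]
  have hfx2 : f ((x⁻¹ : (R K V)ˣ) : R K V) = 1 - f Z := by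
    rw [hxi, hfsub, hf1]
  have hf1a : f (1 + (a : R K V)) = 1 + δ • (a : R K V) := by rw [hf.1, hf1, hδ]
  have hci : (cj K V x)⁻¹ = cj K V x⁻¹ := (map_inv _ _).symm
  have hρc : ρ βc ^ 2 ≠ -1 := by
    intro h3
    have h4 := h.rho_sq hf hσ (u := c) (ρ := ρ βc) (by rw [← hyc]; exact hρ βc) hDc
    apply hDc' σ
    rw [← h4, ← sq, h3]
    ring
  have hfZ : f Z = (1 + δ • (a : R K V)) * f W := by rw [hZ, hmul, hf1a]
  let z : (R K V)ˣ := ⟨1 + f Z, 1 - f Z, by
    rw [← hfx1, ← hfx2, ← hmul, Units.mul_inv, hf1], by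
    rw [← hfx1, ← hfx2, ← hmul, Units.inv_mul, hf1]⟩
  have hg : cj K V (x * z⁻¹) = cj K V x * f * (cj K V x)⁻¹ * f⁻¹ := by
    apply Equiv.ext
    intro Y
    obtain ⟨X, rfl⟩ := f.surjective Y
    rw [hci]
    change ((x * z⁻¹ : (R K V)ˣ) : R K V) * f X * (((x * z⁻¹)⁻¹ : (R K V)ˣ) : R K V) =
      x * f ((cj K V x⁻¹) ((f⁻¹ : Equiv.Perm (R K V)) (f X))) * ((x⁻¹ : (R K V)ˣ) : R K V)
    rw [show (f⁻¹ : Equiv.Perm (R K V)) (f X) = X from f.symm_apply_apply X, cj_apply, hmul, hmul, inv_inv, hfx1,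
      hfx2, mul_inv_rev, inv_inv, Units.val_mul, Units.val_mul]
    simp only [mul_assoc]
    rfl
  have hgn : ∀ α ∈ A, cj K V (x * z⁻¹) * α * (cj K V (x * z⁻¹))⁻¹ ∈ A := by
    intro α hα
    rw [hg]
    exact hnorm _ hd α hα
  have hgv : ((x * z⁻¹ : (R K V)ˣ) : R K V) = (1 + Z) * (1 - f Z) := by
    rw [Units.val_mul, hx]
    rfl
  rcases hδ1 with hδ1 | hδ1
  · -- `f a = a`
    rw [hδ1, one_smul] at hfZ hδ
    have hgW : ((x * z⁻¹ : (R K V)ˣ) : R K V) = 1 + (1 + a) * (W - f W) := by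
      rw [hgv, hfZ, hZ]
      have e1 : (1 + (a : R K V)) * W * ((1 + (a : R K V)) * f W) = 0 := by
        have e1 : W * (1 + (a : R K V)) = (1 - (a : R K V)) * W := by
          rw [mul_add, e0, mul_one, sub_mul, one_mul, sub_eq_add_neg]
        have e2 : (1 + (a : R K V)) * (1 - (a : R K V)) = 0 := by
          rw [add_mul, mul_sub, mul_sub, hN.haa]; simp
        calc (1 + (a : R K V)) * W * ((1 + (a : R K V)) * f W) =
            (1 + (a : R K V)) * (W * (1 + (a : R K V))) * f W := by simp only [mul_assoc]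
          _ = (1 + (a : R K V)) * (1 - (a : R K V)) * W * f W := by rw [e1]; simp only [mul_assoc]
          _ = 0 := by rw [e2]; simp
      rw [mul_sub, mul_one, add_mul (1 : R K V) ((1 + (a : R K V)) * W), one_mul, e1, mul_sub]
      abel
    refine ⟨hδ, fun α hα => ?_⟩
    have h3 := h.lemA hN hgn (W := W - f W) (by unfold An at *; rw [mul_sub, haW, haW', sub_mul]; abel)
      (by unfold Cm at *; rw [mul_sub, hbW, hbW', sub_mul]) hgW (hyA α) ((hT α).1 hα).1 ((hT α).1 hα).2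
    rw [sub_mul, map_sub, htrW α hα, htrW' α hα] at h3
    have h4 : (finrank K V : K) * (1 - ρ α) = 0 := by linear_combination h3
    rcases mul_eq_zero.1 h4 with h5 | h5
    · exact absurd h5 hn
    · rw [hρ, show ρ α = 1 by linear_combination -h5, one_smul]
  · -- `f a = -a`
    exfalso
    rw [hδ1, neg_smul, one_smul, ← sub_eq_add_neg] at hfZ
    refine h.lemB hN hgn haW hbW haW' hbW' (by rw [hgv, hfZ, hZ]) (u := b) (c := c) hN.hb hN.hab Cm.self hc hac hbc
      hbc' (s := ρ βb) (t := ρ βc) ?_ ?_ ?_ ?_ (hρ0 βc) hρc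
    · have := htrW βb hbT; rwa [hyb] at this
    · have := htrW' βb hbT; rwa [hyb] at this
    · have := htrW βc hcT; rwa [hyc] at this
    · have := htrW' βc hcT; rwa [hyc] at this

/-- a linear automorphism fixing `a` and the `y α`, `α ∈ T` -/
theorem auto_one [Finite K] [Module.Finite K V] (h : Dat A 2 m) [Fintype A] {a b : (R K V)ˣ} (hN : Nor a b A)
    {y : A → (R K V)ˣ} (hy : ∀ α : A, cj K V (y α) = α) (hyb : y ⟨cj K V b, hN.hb⟩ = b)
    {f : Equiv.Perm (R K V)} (hf : f ∈ RA K V) (hmul : ∀ X Y, f (X * Y) = f X * f Y)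
    (hlin : ∀ (s : K) (X : R K V), f (s • X) = s • f X) (hfa : f a = a) (hfT : ∀ α ∈ TT a b y, f (y α) = y α) :
    f = 1 := by
  have hf1 := RA_one hf
  have hfb : f b = b := by
    have := hfT _ (mem_TT_of hy hN.hb hN.hab Cm.self)
    rwa [hyb] at this
  have hfT' : ∀ u ∈ Lf A, An (a : R K V) u → Cm (b : R K V) u → f u = u := by
    intro u hu hau hbu
    obtain ⟨s, hs⟩ := exists_rep_smul hy hu
    rw [hs, hlin, hfT _ (mem_TT_of hy hu hau hbu)]
  have hfA' : ∀ u ∈ Lf A, f u = u := by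
    intro u hu
    obtain ⟨w, hw, hw4, hw1, hw2⟩ := h.corr hN.ha hN.hb hN.hab hu
    have hfw : f w = w := by
      rcases hw4 with rfl | rfl | rfl | rfl
      · exact hf1
      · exact hfa
      · exact hfb
      · rw [Units.val_mul, hmul, hfa, hfb]
    have h3 := hfT' (u * w * b) (mul_mem (mul_mem hu hw) hN.hb)
      (by rw [Units.val_mul]; exact hw1.mul_an hN.hab) (by rw [Units.val_mul]; exact hw2.mul Cm.self)
    rw [Units.val_mul, Units.val_mul, hmul, hmul, hfw, hfb] at h3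
    have h4 := congrArg (fun X => X * ((b⁻¹ : (R K V)ˣ) : R K V) * ((w⁻¹ : (R K V)ˣ) : R K V)) h3
    simpa [mul_assoc] using h4
  apply Equiv.ext
  intro X
  have hX : X ∈ Submodule.span K {X : R K V | ∃ x : (R K V)ˣ, (x : R K V) = X ∧ cj K V x ∈ A} := by
    rw [h.hspan]; trivial
  change f X = X
  induction hX using Submodule.span_induction with
  | mem Y hY =>
    obtain ⟨u, rfl, hu⟩ := hY
    exact hfA' u hu
  | zero => exact RA_zero hf
  | add X Y _ _ hX hY => rw [hf.1, hX, hY]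
  | smul s X _ hX => rw [hlin, hX]

/-- a linear anti-automorphism inverting the signs of `a` and the `y α`, `α ∈ T` -/
theorem anti_contra [Finite K] [Module.Finite K V] (h : Dat A 2 m) [Fintype A] {a b : (R K V)ˣ} (hN : Nor a b A)
    {y : A → (R K V)ˣ} (hy : ∀ α : A, cj K V (y α) = α) (hyb : y ⟨cj K V b, hN.hb⟩ = b)
    {f : Equiv.Perm (R K V)} (hf : f ∈ RA K V) (hmul : ∀ X Y, f (X * Y) = f Y * f X)
    (hlin : ∀ (s : K) (X : R K V), f (s • X) = s • f X) (hfT : ∀ α ∈ TT a b y, f (y α) = -(y α : R K V))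
    {η ζ : (R K V)ˣ} (hη : η ∈ Lf A) (hζ : ζ ∈ Lf A) (haη : Cm (a : R K V) η) (hbη : Cm (b : R K V) η)
    (haζ : Cm (a : R K V) ζ) (hbζ : Cm (b : R K V) ζ) (hηζ : An (η : R K V) ζ) : False := by
  haveI := h.nontriv
  have hf1 := RA_one hf
  have h2 := h.two_ne
  have hfb : f b = -b := by
    have := hfT _ (mem_TT_of hy hN.hb hN.hab Cm.self)
    rwa [hyb] at this
  have hfT' : ∀ u ∈ Lf A, An (a : R K V) u → Cm (b : R K V) u → f u = -u := by
    intro u hu hau hbu
    obtain ⟨s, hs⟩ := exists_rep_smul hy hu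
    rw [hs, hlin, hfT _ (mem_TT_of hy hu hau hbu), smul_neg]
  have hfC : ∀ u ∈ Lf A, Cm (a : R K V) u → Cm (b : R K V) u → f u = u := by
    intro u hu hau hbu
    have h3 := hfT' (b * u) (mul_mem hN.hb hu) (by rw [Units.val_mul]; exact hN.hab.mul_cm hau)
      (by rw [Units.val_mul]; exact (Cm.self (x := (b : R K V))).mul hbu)
    rw [Units.val_mul, hmul, hfb, hbu, mul_neg, neg_inj] at h3
    have h4 := congrArg (fun X => X * ((b⁻¹ : (R K V)ˣ) : R K V)) h3
    simpa [mul_assoc] using h4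
  have h3 := hfC (η * ζ) (mul_mem hη hζ) (by rw [Units.val_mul]; exact haη.mul haζ)
    (by rw [Units.val_mul]; exact hbη.mul hbζ)
  rw [Units.val_mul, hmul, hfC η hη haη hbη, hfC ζ hζ haζ hbζ, hηζ] at h3
  have h4 : (2 : K) • ((ζ * η : (R K V)ˣ) : R K V) = 0 := by
    rw [two_smul, Units.val_mul]
    nth_rewrite 1 [h3]
    rw [neg_add_cancel]
  exact h2 (smul_eq_zero_unit h4)

end Dat

end Cfsg.Agent.H716.FC
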